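import Groth.Prelude.Def_RDer
import Mathlib.CategoryTheory.Adjunction.Limits
import Mathlib.CategoryTheory.Adjunction.Additive

/-!
# Transposes of comparison maps on homology
-/

set_option autoImplicit false
set_option backward.isDefEq.respectTransparency false
set_option linter.unusedSectionVars false

universe v u v' u'

open CategoryTheory CategoryTheory.Limits HomologicalComplex

namespace Groth.Agent.CohDer1.BCFlat

variable {B : Type u} [Category.{v} B] [Abelian B] {C : Type u'} [Category.{v'} C] [Abelian C]

theorem homologyπ_mapHomologyIso_hom (S : ShortComplex B) (F : B ⥤ C) [F.PreservesZeroMorphisms]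
    [F.PreservesLeftHomologyOf S] :
    (S.map F).homologyπ ≫ (S.mapHomologyIso F).hom = (S.mapCyclesIso F).hom ≫ F.map S.homologyπ := by
  let h := S.homologyData.left
  rw [h.mapHomologyIso_eq F, h.mapCyclesIso_eq F]
  simp only [Iso.trans_hom, Functor.mapIso_hom, Iso.symm_hom]
  rw [← Category.assoc, (h.map F).homologyπ_comp_homologyIso_hom]
  simp only [ShortComplex.LeftHomologyData.map_π, Category.assoc, ← F.map_comp,
    h.π_comp_homologyIso_inv]

variable {Φ : B ⥤ C} {Ψ : C ⥤ B} (adj : Φ ⊣ Ψ) [Φ.Additive] [Ψ.Additive] [PreservesFiniteLimits Φ]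
  [PreservesFiniteColimits Φ] [PreservesFiniteLimits Ψ]
  {ι : Type*} {c : ComplexShape ι} {K : HomologicalComplex B c} {L : HomologicalComplex C c}
  (χ : K ⟶ (Ψ.mapHomologicalComplex c).obj L)

/-- The transpose of a map of complexes. -/
noncomputable def transposeHom : (Φ.mapHomologicalComplex c).obj K ⟶ L where
  f k := Φ.map (χ.f k) ≫ adj.counit.app (L.X k)
  comm' i j _ := by
    have h1 := congrArg Φ.map (χ.comm i j)
    simp only [Functor.map_comp, Functor.mapHomologicalComplex_obj_d] at h1
    show (Φ.map (χ.f i) ≫ adj.counit.app (L.X i)) ≫ L.d i j = Φ.map (K.d i j) ≫ Φ.map (χ.f j) ≫ adj.counit.app (L.X j)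
    have h2 := adj.counit.naturality (L.d i j)
    simp only [Functor.comp_map, Functor.id_map] at h2
    rw [Category.assoc, ← h2]
    erw [reassoc_of% h1]

/-- The transpose of a comparison on homology is the map on homology of the transpose. -/
theorem map_homologyMap_comparison (i : ι) :
    Φ.map (homologyMap χ i ≫ RDer.homologyComparison Ψ L i) ≫ adj.counit.app (L.homology i) =
      ((K.sc i).mapHomologyIso Φ).inv ≫ homologyMap (transposeHom adj χ) i := by
  rw [← cancel_epi (Φ.map (K.homologyπ i)), ← Category.assoc, ← Φ.map_comp, homologyπ_naturality_assoc,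
    RDer.homologyπ_homologyComparison]
  have hπ : Φ.map (K.homologyπ i) ≫ ((K.sc i).mapHomologyIso Φ).inv =
      ((K.sc i).mapCyclesIso Φ).inv ≫ ((K.sc i).map Φ).homologyπ := by
    rw [Iso.comp_inv_eq, Category.assoc, homologyπ_mapHomologyIso_hom, Iso.inv_hom_id_assoc]
    rfl
  have hnat := adj.counit.naturality (L.homologyπ i)
  simp only [Functor.comp_map, Functor.id_map] at hnat
  rw [reassoc_of% hπ]
  rw [← Category.assoc (cyclesMap χ i), Φ.map_comp, Category.assoc, hnat]
  erw [homologyπ_naturality (transposeHom adj χ) i]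
  rw [← Category.assoc, ← Category.assoc]
  congr 1
  rw [← cancel_mono (L.iCycles i), Category.assoc, Category.assoc]
  erw [cyclesMap_i]
  have hε := adj.counit.naturality (L.iCycles i)
  simp only [Functor.comp_map, Functor.id_map] at hε
  rw [← hε, ← Category.assoc, ← Φ.map_comp, Category.assoc, RDer.cyclesComparison_i, cyclesMap_i, Φ.map_comp,
    Category.assoc]
  have hi : ((K.sc i).mapCyclesIso Φ).inv ≫ ((K.sc i).map Φ).iCycles = Φ.map (K.sc i).iCycles := by
    rw [Iso.inv_comp_eq, ShortComplex.mapCyclesIso_hom_iCycles]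
  exact (reassoc_of% hi) _ |>.symm

end Groth.Agent.CohDer1.BCFlat
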