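import Groth.Agent.CohDer1.BCFlat.Local
import Groth.Agent.Coherent.AffineVanishing
import Groth.Agent.EGA43.Cons.FibFlatLocus
import Groth.Agent.EGA43.InjFibre.Scheme
import Groth.Agent.Coherent.TensorQcoh
import Mathlib.CategoryTheory.Abelian.Injective.Ext

/-!
# The affine case of the comparison over a chart
-/

set_option autoImplicit false
set_option backward.isDefEq.respectTransparency false
set_option linter.style.haveILetI false
set_option linter.unusedSectionVars false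
set_option maxHeartbeats 1000000

universe u

open CategoryTheory CategoryTheory.Limits CategoryTheory.Abelian AlgebraicGeometry Opposite TopologicalSpace
  MonoidalCategory
open Groth.Agent.Coherent Groth.Agent.PicLib Groth.Agent.AmpleLib
open scoped TensorProduct

noncomputable section

namespace Groth.Agent.CohDer1.BCFlat

section Sections

variable {X : Scheme.{u}} {F : X.Modules} (R : InjectiveResolution F)

theorem injective_app_of_mono {M N : X.Modules} (ψ : M ⟶ N) [Mono ψ] (V : X.Opens) :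
    Function.Injective (ψ.app V) := fun a b hab => by
  obtain ⟨φ, rfl⟩ := (freeModOnEquiv V M).surjective a
  obtain ⟨φ', rfl⟩ := (freeModOnEquiv V M).surjective b
  rw [← freeModOnEquiv_comp, ← freeModOnEquiv_comp] at hab
  rw [(cancel_mono ψ).1 ((freeModOnEquiv V N).injective hab)]

theorem freeModOnEquiv_zero (V : X.Opens) (M : X.Modules) : freeModOnEquiv V M 0 = 0 :=
  (secMod V M).map_zero

/-- Sections of cocycles of degree zero. -/
theorem exists_ι_app_eq (V : X.Opens) (y : Γ(R.cocomplex.X 0, V))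
    (hy : (R.cocomplex.d 0 1).app V y = 0) : ∃ z : Γ(F, V), (R.ι.f 0).app V z = y := by
  obtain ⟨φ, rfl⟩ := (freeModOnEquiv V _).surjective y
  rw [← freeModOnEquiv_comp] at hy
  have hd : φ ≫ R.cocomplex.d 0 1 = 0 :=
    (freeModOnEquiv V _).injective (hy.trans (freeModOnEquiv_zero V _).symm)
  obtain ⟨l, hl⟩ := KernelFork.IsLimit.lift' R.isLimitKernelFork φ hd
  exact ⟨freeModOnEquiv V F l, (freeModOnEquiv_comp V l _).symm.trans (congrArg _ hl)⟩

/-- Over an affine open the sections of a resolution of a quasi-coherent module are exact in positive degrees. -/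
theorem exists_d_app_eq [Coh.IsQCoh F] {V : X.Opens} (hV : IsAffineOpen V) (n : ℕ)
    (y : Γ(R.cocomplex.X (n + 1), V)) (hy : (R.cocomplex.d (n + 1) (n + 2)).app V y = 0) :
    ∃ x : Γ(R.cocomplex.X n, V), (R.cocomplex.d n (n + 1)).app V x = y := by
  obtain ⟨φ, rfl⟩ := (freeModOnEquiv V _).surjective y
  rw [← freeModOnEquiv_comp] at hy
  have hd : φ ≫ R.cocomplex.d (n + 1) (n + 2) = 0 :=
    (freeModOnEquiv V _).injective (hy.trans (freeModOnEquiv_zero V _).symm)
  have hs : Subsingleton (Ext (freeSh (X := X.toTopCat) V) (Coh.toAb F) (n + 1)) :=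
    subsingleton_H'_qcoh F hV n
  have h0 : R.extMk φ (n + 2) rfl hd = 0 :=
    (bijective_extToH V (n + 1) F).1 (hs.elim _ _)
  obtain ⟨ψ, hψ⟩ := (R.extMk_eq_zero_iff φ (n + 2) rfl hd n rfl).1 h0
  exact ⟨freeModOnEquiv V _ ψ, (freeModOnEquiv_comp V ψ _).symm.trans (congrArg _ hψ)⟩

end Sections

variable {X S X' S' : Scheme.{u}} {f : X ⟶ S} {g : S' ⟶ S} {g' : X' ⟶ X} {f' : X' ⟶ S'}
  {U : S.Opens} {U' : S'.Opens} (G : S'.Modules) (e : U' ≤ g ⁻¹ᵁ U)
  {V : X.Opens} (hV : V ≤ f ⁻¹ᵁ U) {V' : X'.Opens} (hVg : V' ≤ g' ⁻¹ᵁ V) (hVf : V' ≤ f' ⁻¹ᵁ U')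

/-- The comparison is bijective for quasi-coherent modules and affine opens. -/
theorem bijective_etaApp (sq : IsPullback g' f' f g) (hU : IsAffineOpen U) (hU' : IsAffineOpen U')
    (hVa : IsAffineOpen V) (hV' : V' = g' ⁻¹ᵁ V ⊓ f' ⁻¹ᵁ U') (N : X.Modules) [Coh.IsQCoh N]
    [Coh.IsQCoh G] : Function.Bijective (etaApp G sq.w e hV hVg hVf N).hom := by
  have hV'a : IsAffineOpen V' := hV' ▸ EGA43.InjFibre.isAffineOpen_inf_preimage sq hU hVa hU' hV e
  have hp := (isIso_pushoutSection_iff sq e hV hV').1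
    (isIso_pushoutSection_of_isAffineOpen sq e hV hV' hU hU' hVa)
  haveI : Coh.IsQCoh ((Scheme.Modules.pullback g').obj N) := EGA43.InjFibre.isQCoh_pullback g' N
  haveI : Coh.IsQCoh ((Scheme.Modules.pullback f').obj G) := EGA43.InjFibre.isQCoh_pullback f' G
  let P := (Scheme.Modules.pullback g').obj N
  let Q := (Scheme.Modules.pullback f').obj G
  let cA := (f.appLE U V hV).hom
  let cB := (g.appLE U U' e).hom
  let c₁ := (g'.appLE V V' hVg).hom
  let c₂ := (f'.appLE U' V' hVf).hom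
  let _ : Algebra Γ(S, U) Γ(X, V) := cA.toAlgebra
  let _ : Algebra Γ(S, U) Γ(S', U') := cB.toAlgebra
  let _ : Algebra Γ(X, V) Γ(X', V') := c₁.toAlgebra
  let _ : Algebra Γ(S', U') Γ(X', V') := c₂.toAlgebra
  let _ : Algebra Γ(S, U) Γ(X', V') := (c₁.comp cA).toAlgebra
  haveI : IsScalarTower Γ(S, U) Γ(X, V) Γ(X', V') := .of_algebraMap_eq fun _ => rfl
  haveI : IsScalarTower Γ(S, U) Γ(S', U') Γ(X', V') :=
    .of_algebraMap_eq fun r => appLE_sq sq.w e hV hVg hVf r
  haveI : Algebra.IsPushout Γ(S, U) Γ(X, V) Γ(S', U') Γ(X', V') := CommRingCat.isPushout_iff_isPushout.1 hp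
  haveI : Algebra.IsPushout Γ(S, U) Γ(S', U') Γ(X, V) Γ(X', V') := Algebra.IsPushout.symm inferInstance
  let _ : Module Γ(S, U) Γ(N, V) := Module.compHom _ cA
  haveI : IsScalarTower Γ(S, U) Γ(X, V) Γ(N, V) := .of_algebraMap_smul fun _ _ => rfl
  let _ : Module Γ(S, U) Γ(G, U') := Module.compHom _ cB
  haveI : IsScalarTower Γ(S, U) Γ(S', U') Γ(G, U') := .of_algebraMap_smul fun _ _ => rfl
  let _ : Module Γ(X, V) Γ(P, V') := Module.compHom _ c₁
  let _ : Module Γ(S', U') Γ(P, V') := Module.compHom _ c₂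
  let _ : Module Γ(S, U) Γ(P, V') := Module.compHom _ (c₁.comp cA)
  haveI : IsScalarTower Γ(X, V) Γ(X', V') Γ(P, V') := .of_algebraMap_smul fun _ _ => rfl
  haveI : IsScalarTower Γ(S', U') Γ(X', V') Γ(P, V') := .of_algebraMap_smul fun _ _ => rfl
  haveI : IsScalarTower Γ(S, U) Γ(X, V) Γ(P, V') := .of_algebraMap_smul fun _ _ => rfl
  haveI : IsScalarTower Γ(S, U) Γ(S', U') Γ(P, V') := .of_algebraMap_smul fun a m => by
    show c₂ (cB a) • m = c₁ (cA a) • m
    exact congrArg (fun r : Γ(X', V') => r • m) (appLE_sq sq.w e hV hVg hVf a).symm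
  let _ : Module Γ(S', U') Γ(Q, V') := Module.compHom _ c₂
  haveI : IsScalarTower Γ(S', U') Γ(X', V') Γ(Q, V') := .of_algebraMap_smul fun _ _ => rfl
  obtain ⟨μ, hμ, hμe⟩ := EGA43.InjFibre.pullMap_isBaseChange g' hVa hV'a hVg (M := N)
  obtain ⟨ν, hν, hνe⟩ := EGA43.InjFibre.pullMap_isBaseChange f' hU' hV'a hVf (M := G)
  have hb := (EGA43.Cons.isBaseChange_iff_of_isPushout (R := Γ(S, U)) (T := Γ(S', U')) (R' := Γ(X, V))
    (T' := Γ(X', V')) μ).1 hμ
  let E : Γ(G, U') ⊗[Γ(S, U)] Γ(N, V) ≃+ Γ(P, V') ⊗[Γ(X', V')] Γ(Q, V') :=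
    (((((TensorProduct.AlgebraTensorModule.cancelBaseChange Γ(S, U) Γ(S', U') Γ(S', U') Γ(G, U') Γ(N, V)).symm.toAddEquiv).trans
      (LinearEquiv.lTensor Γ(G, U') hb.equiv).toAddEquiv).trans
      (TensorProduct.comm Γ(S', U') Γ(G, U') Γ(P, V')).toAddEquiv).trans
      (TensorProduct.AlgebraTensorModule.cancelBaseChange Γ(S', U') Γ(X', V') Γ(X', V') Γ(P, V') Γ(G, U')).symm.toAddEquiv).trans
      (LinearEquiv.lTensor Γ(P, V') hν.equiv).toAddEquiv
  have key : ∀ z : Γ(G, U') ⊗[Γ(S, U)] Γ(N, V),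
      (show Γ(CohB1.tensorMod P Q, V') from (etaApp G sq.w e hV hVg hVf N).hom
        (show Mg g U U' G e ⊗[Γ(S, U)] (secV f U V hV).obj N from z)) =
      tmulMap P Q V' (E z) := fun z => by
    induction z using TensorProduct.induction_on with
    | zero => exact (map_zero (etaApp G sq.w e hV hVg hVf N).hom).trans (by rw [map_zero, map_zero])
    | add a b ha hb =>
      refine (map_add (etaApp G sq.w e hV hVg hVf N).hom a b).trans ?_
      rw [map_add, map_add, ← ha, ← hb]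
      rfl
    | tmul m x =>
      have h1 : E (m ⊗ₜ x) = μ x ⊗ₜ ν m := by
        simp [E, IsBaseChange.equiv_tmul]
        exact congrArg (fun t => μ x ⊗ₜ t) ((hν.equiv_tmul 1 m).trans (one_smul _ _))
      rw [h1, tmulMap_tmul, hμe, hνe, pullMap_eq_resM_pullSec, pullMap_eq_resM_pullSec]
      rfl
  have hfun : (fun z : Γ(G, U') ⊗[Γ(S, U)] Γ(N, V) => (show Γ(CohB1.tensorMod P Q, V') from
      (etaApp G sq.w e hV hVg hVf N).hom (show Mg g U U' G e ⊗[Γ(S, U)] (secV f U V hV).obj N from z))) =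
      tmulMap P Q V' ∘ E := funext key
  exact (congrArg Function.Bijective hfun).mpr ((bijective_tmulMap hV'a P Q).comp E.bijective)

variable {F : X.Modules} [Coh.IsQCoh F] (R : InjectiveResolution F) [Coh.IsQCoh G]
  (J : InjectiveResolution ((twist g' f' G).obj F))
  (q : ((twist g' f' G).mapHomologicalComplex _).obj R.cocomplex ⟶ J.cocomplex)

/-- The affine case. -/
theorem quasiIso_Psi_affine (sq : IsPullback g' f' f g) (hU : IsAffineOpen U) (hU' : IsAffineOpen U')
    [Module.Flat Γ(S, U) (Mg g U U' G e)]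
    (hq : (twist g' f' G).map (R.ι.f 0) ≫ q.f 0 = J.ι.f 0)
    (hVa : IsAffineOpen V) (hV' : V' = g' ⁻¹ᵁ V ⊓ f' ⁻¹ᵁ U') :
    QuasiIso (Psi G sq.w e hV hVg hVf q) := by
  have hV'a : IsAffineOpen V' := hV' ▸ EGA43.InjFibre.isAffineOpen_inf_preimage sq hU hVa hU' hV e
  haveI : Coh.IsQCoh ((twist g' f' G).obj F) :=
    haveI : Coh.IsQCoh ((Scheme.Modules.pullback g').obj F) := EGA43.InjFibre.isQCoh_pullback g' F
    haveI : Coh.IsQCoh ((Scheme.Modules.pullback f').obj G) := EGA43.InjFibre.isQCoh_pullback f' G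
    isQCoh_tensorMod _ _
  let M := Mg g U U' G e
  let sec := secV f U V hV
  rw [quasiIso_iff]
  rintro (_ | n)
  · have hdd : ∀ {K : CochainComplex (ModuleCat.{u} Γ(S, U)) ℕ}
        (z : K.X ((ComplexShape.up ℕ).prev 0)), K.d ((ComplexShape.up ℕ).prev 0) 0 z = 0 := fun z => by
      rw [HomologicalComplex.shape _ _ _ (by simp)]
      rfl
    have hnat : ∀ z : (sec ⋙ tensorLeft M).obj F,
        (Psi G sq.w e hV hVg hVf q).f 0 ((sec ⋙ tensorLeft M).map (R.ι.f 0) z) =
          (secV' f' e V' hVf).map (J.ι.f 0) ((eta G sq.w e hV hVg hVf).app F z) := fun z => by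
      refine (congrArg ((secV' f' e V' hVf).map (q.f 0))
        (ConcreteCategory.congr_hom ((eta G sq.w e hV hVg hVf).naturality (R.ι.f 0)) z)).trans ?_
      exact ConcreteCategory.congr_hom ((((secV' f' e V' hVf).map_comp _ _).symm.trans
        (congrArg (secV' f' e V' hVf).map hq))) ((eta G sq.w e hV hVg hVf).app F z)
    have hinj : Function.Injective (sec.map (R.ι.f 0)).hom := injective_app_of_mono _ V
    have hex : Function.Exact (sec.map (R.ι.f 0)).hom (sec.map (R.cocomplex.d 0 1)).hom := fun y =>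
      ⟨fun hy => exists_ι_app_eq R V y hy, fun ⟨z, hz⟩ => hz ▸
        ConcreteCategory.congr_hom (((sec.map_comp _ _).symm.trans
          (congrArg sec.map R.ι_f_zero_comp_complex_d)).trans (sec.map_zero _ _)) z⟩
    have hexM := Module.Flat.lTensor_exact M hex
    rw [quasiIsoAt_iff_elements]
    refine ⟨fun x hx => ?_, fun y hy z hz => ⟨0, ?_⟩⟩
    · obtain ⟨w, hw⟩ := exists_ι_app_eq J V' x hx
      obtain ⟨z, hz⟩ := (bijective_etaApp G e hV hVg hVf sq hU hU' hVa hV' F).2 w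
      refine ⟨(sec ⋙ tensorLeft M).map (R.ι.f 0) z, ?_, 0, ?_⟩
      · exact hexM.apply_apply_eq_zero z
      · rw [map_zero, add_zero, hnat]
        exact (congrArg ((secV' f' e V' hVf).map (J.ι.f 0)) hz).trans hw
    · obtain ⟨z', hz'⟩ := (hexM y).1 hy
      rw [hdd] at hz ⊢
      have hy' : y = (sec ⋙ tensorLeft M).map (R.ι.f 0) z' := hz'.symm
      rw [hy', hnat] at hz
      have h0 : (eta G sq.w e hV hVg hVf).app F z' = 0 :=
        injective_app_of_mono (J.ι.f 0) V' (hz.trans (map_zero _).symm)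
      have : z' = 0 := (bijective_etaApp G e hV hVg hVf sq hU hU' hVa hV' F).1 (h0.trans (map_zero _).symm)
      rw [hy', this, map_zero]
  · have hex : Function.Exact (sec.map (R.cocomplex.d n (n + 1))).hom
        (sec.map (R.cocomplex.d (n + 1) (n + 2))).hom := fun y =>
      ⟨fun hy => exists_d_app_eq R hVa n y hy, fun ⟨z, hz⟩ => hz ▸
        ConcreteCategory.congr_hom (((sec.map_comp _ _).symm.trans
          (congrArg sec.map (R.cocomplex.d_comp_d _ _ _))).trans (sec.map_zero _ _)) z⟩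
    have hexM := Module.Flat.lTensor_exact M hex
    have hp : (ComplexShape.up ℕ).prev (n + 1) = n := by simp
    rw [quasiIsoAt_iff_elements, hp]
    refine ⟨fun x hx => ?_, fun y hy z _ => (hexM y).1 hy⟩
    obtain ⟨w, hw⟩ := exists_d_app_eq J hV'a n x hx
    exact ⟨0, map_zero _, w, by rw [map_zero, zero_add]; exact hw⟩

end Groth.Agent.CohDer1.BCFlat
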