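import Groth.Agent.CohDer1.BCFlat.Base
import Groth.Agent.Props12.FlatOver
import Groth.Agent.S0015

/-!
# The comparison over a chart is a quasi-isomorphism
-/

set_option autoImplicit false
set_option backward.isDefEq.respectTransparency false
set_option linter.style.haveILetI false
set_option linter.unusedSectionVars false
set_option maxHeartbeats 1000000

universe u

open CategoryTheory CategoryTheory.Limits AlgebraicGeometry Opposite TopologicalSpace MonoidalCategory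
open Groth.Agent.Coherent Groth.Agent.PicLib Groth.Agent.AmpleLib
open scoped TensorProduct

noncomputable section

namespace Groth.Agent.CohDer1.BCFlat

section Flat

variable {A : Type u} [CommRing A] (M : Type u) [AddCommGroup M] [Module A M] [Module.Flat A M]
  {P Q₁ Q₂ R : Type u} [AddCommGroup P] [AddCommGroup Q₁] [AddCommGroup Q₂] [AddCommGroup R]
  [Module A P] [Module A Q₁] [Module A Q₂] [Module A R]
  (a : P →ₗ[A] Q₁) (b : P →ₗ[A] Q₂) (d : Q₁ →ₗ[A] R) (e : Q₂ →ₗ[A] R)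

theorem prodRight_lTensor_prod (z : M ⊗[A] P) :
    TensorProduct.prodRight A A M Q₁ Q₂ ((a.prod b).lTensor M z) = (a.lTensor M z, b.lTensor M z) := by
  induction z using TensorProduct.induction_on with
  | zero => simp only [map_zero]; rfl
  | add u v hu hv => simp only [map_add, hu, hv, Prod.mk_add_mk]
  | tmul m x => simp

theorem coprod_lTensor (z : M ⊗[A] (Q₁ × Q₂)) :
    (d.coprod (-e)).lTensor M z = d.lTensor M (TensorProduct.prodRight A A M Q₁ Q₂ z).1 -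
      e.lTensor M (TensorProduct.prodRight A A M Q₁ Q₂ z).2 := by
  induction z using TensorProduct.induction_on with
  | zero => simp
  | add u v hu hv => simp only [map_add, hu, hv, Prod.fst_add, Prod.snd_add]; abel
  | tmul m x => simp [← sub_eq_add_neg, TensorProduct.tmul_sub]

/-- Tensoring a left exact square with a flat module. -/
theorem lTensor_square (w : d ∘ₗ a = e ∘ₗ b) (hinj : ∀ x, a x = 0 → b x = 0 → x = 0)
    (hex : ∀ y₁ y₂, d y₁ = e y₂ → ∃ x, a x = y₁ ∧ b x = y₂) :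
    (∀ x, a.lTensor M x = 0 → b.lTensor M x = 0 → x = 0) ∧
    (∀ y₁ y₂, d.lTensor M y₁ = e.lTensor M y₂ → ∃ x, a.lTensor M x = y₁ ∧ b.lTensor M x = y₂) := by
  have hi : Function.Injective (a.prod b) := (injective_iff_map_eq_zero _).2 fun x hx =>
    hinj x (congrArg Prod.fst hx) (congrArg Prod.snd hx)
  have he : Function.Exact (a.prod b) (d.coprod (-e)) := fun y => by
    constructor
    · intro hy
      obtain ⟨x, h₁, h₂⟩ := hex y.1 y.2 (by simpa [← sub_eq_add_neg, sub_eq_zero] using hy)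
      exact ⟨x, Prod.ext h₁ h₂⟩
    · rintro ⟨x, rfl⟩
      simpa [← sub_eq_add_neg, sub_eq_zero] using LinearMap.congr_fun w x
  have hiM := Module.Flat.lTensor_preserves_injective_linearMap (M := M) _ hi
  have heM := Module.Flat.lTensor_exact M he
  refine ⟨fun x hx₁ hx₂ => (injective_iff_map_eq_zero _).1 hiM x
    ((TensorProduct.prodRight A A M Q₁ Q₂).map_eq_zero_iff.1 ?_), fun y₁ y₂ hy => ?_⟩
  · rw [prodRight_lTensor_prod, hx₁, hx₂]
    rfl
  · obtain ⟨x, hx⟩ := (heM ((TensorProduct.prodRight A A M Q₁ Q₂).symm (y₁, y₂))).1 (by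
      rw [coprod_lTensor, LinearEquiv.apply_symm_apply]
      exact sub_eq_zero.2 hy)
    have hx' := congrArg (TensorProduct.prodRight A A M Q₁ Q₂) hx
    rw [prodRight_lTensor_prod, LinearEquiv.apply_symm_apply] at hx'
    exact ⟨x, congrArg Prod.fst hx', congrArg Prod.snd hx'⟩

end Flat

variable {X S X' S' : Scheme.{u}} {f : X ⟶ S} {g : S' ⟶ S} {g' : X' ⟶ X} {f' : X' ⟶ S'}
  {U : S.Opens} {U' : S'.Opens} (G : S'.Modules) (e : U' ≤ g ⁻¹ᵁ U)

/-- Mayer-Vietoris. -/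
theorem quasiIso_Psi_sup (w : g' ≫ f = f' ≫ g) [Module.Flat Γ(S, U) (Mg g U U' G e)]
    {I : CochainComplex X.Modules ℕ} [∀ k, Injective (I.X k)] {J : CochainComplex X'.Modules ℕ}
    [∀ k, Injective (J.X k)] (q : ((twist g' f' G).mapHomologicalComplex _).obj I ⟶ J)
    {V W : X.Opens} (hV : V ≤ f ⁻¹ᵁ U) (hW : W ≤ f ⁻¹ᵁ U)
    {V' W' : X'.Opens} (hVg : V' ≤ g' ⁻¹ᵁ V) (hVf : V' ≤ f' ⁻¹ᵁ U') (hWg : W' ≤ g' ⁻¹ᵁ W) (hWf : W' ≤ f' ⁻¹ᵁ U')
    (hQV : QuasiIso (Psi G w e hV hVg hVf q)) (hQW : QuasiIso (Psi G w e hW hWg hWf q))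
    (hQI : QuasiIso (Psi G w e (inf_le_left.trans hV : V ⊓ W ≤ f ⁻¹ᵁ U)
      (le_inf (inf_le_left.trans hVg) (inf_le_right.trans hWg) : V' ⊓ W' ≤ g' ⁻¹ᵁ (V ⊓ W))
      (inf_le_left.trans hVf) q)) :
    QuasiIso (Psi G w e (sup_le hV hW : V ⊔ W ≤ f ⁻¹ᵁ U)
      (sup_le (hVg.trans (g'.preimage_mono le_sup_left)) (hWg.trans (g'.preimage_mono le_sup_right)) :
        V' ⊔ W' ≤ g' ⁻¹ᵁ (V ⊔ W))
      (sup_le hVf hWf) q) := by
  let hU₀ : V ⊔ W ≤ f ⁻¹ᵁ U := sup_le hV hW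
  let hI₀ : V ⊓ W ≤ f ⁻¹ᵁ U := inf_le_left.trans hV
  let hU₁ : V' ⊔ W' ≤ f' ⁻¹ᵁ U' := sup_le hVf hWf
  let hI₁ : V' ⊓ W' ≤ f' ⁻¹ᵁ U' := inf_le_left.trans hVf
  let hUg : V' ⊔ W' ≤ g' ⁻¹ᵁ (V ⊔ W) :=
    sup_le (hVg.trans (g'.preimage_mono le_sup_left)) (hWg.trans (g'.preimage_mono le_sup_right))
  let hIg : V' ⊓ W' ≤ g' ⁻¹ᵁ (V ⊓ W) := le_inf (inf_le_left.trans hVg) (inf_le_right.trans hWg)
  let a := rhoM G e hU₀ hV le_sup_left (I := I)
  let b := rhoM G e hU₀ hW le_sup_right (I := I)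
  let d := rhoM G e hV hI₀ inf_le_left (I := I)
  let c := rhoM G e hW hI₀ inf_le_right (I := I)
  let a' := rhoJ e hU₁ hVf le_sup_left J
  let b' := rhoJ e hU₁ hWf le_sup_right J
  let d' := rhoJ e hVf hI₁ inf_le_left J
  let c' := rhoJ e hWf hI₁ inf_le_right J
  have hlin : ∀ k, ((rho hV hI₀ inf_le_left).app (I.X k)).hom ∘ₗ
        ((rho hU₀ hV le_sup_left).app (I.X k)).hom =
      ((rho hW hI₀ inf_le_right).app (I.X k)).hom ∘ₗ ((rho hU₀ hW le_sup_right).app (I.X k)).hom :=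
    fun k => LinearMap.ext fun x =>
      (resM_resM (I.X k) _ _ (show Γ(I.X k, V ⊔ W) from x)).trans
        (resM_resM (I.X k) _ _ (show Γ(I.X k, V ⊔ W) from x)).symm
  have wS : a ≫ d = b ≫ c := by
    ext k : 1
    exact ModuleCat.hom_ext (((LinearMap.lTensor_comp (Mg g U U' G e) _ _).symm.trans
      (congrArg (LinearMap.lTensor (Mg g U U' G e)) (hlin k))).trans (LinearMap.lTensor_comp (Mg g U U' G e) _ _))
  have wT : a' ≫ d' = b' ≫ c' := by
    ext k : 1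
    exact ModuleCat.hom_ext (LinearMap.ext fun x =>
      (resM_resM (J.X k) _ _ (show Γ(J.X k, V' ⊔ W') from x)).trans
        (resM_resM (J.X k) _ _ (show Γ(J.X k, V' ⊔ W') from x)).symm)
  have hsq := fun k => lTensor_square (Mg g U U' G e) ((rho hU₀ hV le_sup_left).app (I.X k)).hom
    ((rho hU₀ hW le_sup_right).app (I.X k)).hom ((rho hV hI₀ inf_le_left).app (I.X k)).hom
    ((rho hW hI₀ inf_le_right).app (I.X k)).hom (hlin k)
    (fun x h₁ h₂ => eq_of_resM_pair (I.X k) V W x 0 (h₁.trans (map_zero _).symm) (h₂.trans (map_zero _).symm))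
    (fun y₁ y₂ h => exists_resM_pair (I.X k) V W y₁ y₂ h)
  have hS := shortExact_square a b d c wS (fun k => (hsq k).1) (fun k => (hsq k).2)
    (fun k => LinearMap.lTensor_surjective _ (surjective_resM_of_injective (I.X k) inf_le_left))
  have hT := shortExact_square a' b' d' c' wT
    (fun k x h₁ h₂ => eq_of_resM_pair (J.X k) V' W' x 0 (h₁.trans (map_zero _).symm) (h₂.trans (map_zero _).symm))
    (fun k y₁ y₂ h => exists_resM_pair (J.X k) V' W' y₁ y₂ h)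
    (fun k => surjective_resM_of_injective (J.X k) inf_le_left)
  refine quasiIso_τ₁ (ShortComplex.homMk
    (S₁ := ShortComplex.mk (biprod.lift a b) (biprod.desc d (-c))
      (by rw [biprod.lift_desc, Preadditive.comp_neg, wS, add_neg_cancel]))
    (S₂ := ShortComplex.mk (biprod.lift a' b') (biprod.desc d' (-c'))
      (by rw [biprod.lift_desc, Preadditive.comp_neg, wT, add_neg_cancel]))
    (Psi G w e hU₀ hUg hU₁ q) (biprod.map (Psi G w e hV hVg hVf q) (Psi G w e hW hWg hWf q))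
    (Psi G w e hI₀ hIg hI₁ q) ?_ ?_) hS hT (quasiIso_biprod_map _ _) hQI
  · refine biprod.hom_ext _ _ ?_ ?_
    · simp only [Category.assoc, biprod.lift_fst, biprod.map_fst, biprod.lift_fst_assoc]
      exact Psi_res G w e hU₀ hUg hU₁ q hV hVg hVf le_sup_left le_sup_left
    · simp only [Category.assoc, biprod.lift_snd, biprod.map_snd, biprod.lift_snd_assoc]
      exact Psi_res G w e hU₀ hUg hU₁ q hW hWg hWf le_sup_right le_sup_right
  · refine biprod.hom_ext' _ _ ?_ ?_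
    · simp only [biprod.inl_map_assoc, biprod.inl_desc, biprod.inl_desc_assoc]
      exact Psi_res G w e hV hVg hVf q hI₀ hIg hI₁ inf_le_left inf_le_left
    · simp only [biprod.inr_map_assoc, biprod.inr_desc, biprod.inr_desc_assoc, Preadditive.comp_neg,
        Preadditive.neg_comp]
      exact congrArg Neg.neg (Psi_res G w e hW hWg hWf q hI₀ hIg hI₁ inf_le_right inf_le_right)

/-- `G` over an affine chart is flat. -/
theorem flat_Mg [Coh.IsQCoh G] (hGf : FlatMod.IsFlatOver g G) (hU : IsAffineOpen U) (hU' : IsAffineOpen U') :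
    Module.Flat Γ(S, U) (Mg g U U' G e) :=
  (Props12.flat_sections_iff g G hU hU' e).2 fun x _ => hGf x

variable {F : X.Modules} [Coh.IsQCoh F] (R : InjectiveResolution F) [Coh.IsQCoh G]
  (J : InjectiveResolution ((twist g' f' G).obj F))
  (q : ((twist g' f' G).mapHomologicalComplex _).obj R.cocomplex ⟶ J.cocomplex)

/-- The comparison over a chart is a quasi-isomorphism. -/
theorem quasiIso_Psi (sq : IsPullback g' f' f g) [QuasiCompact f] [QuasiSeparated f]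
    (hGf : FlatMod.IsFlatOver g G)
    (hq : (twist g' f' G).map (R.ι.f 0) ≫ q.f 0 = J.ι.f 0)
    (hU : IsAffineOpen U) (hU' : IsAffineOpen U') (hg : f' ⁻¹ᵁ U' ≤ g' ⁻¹ᵁ (f ⁻¹ᵁ U)) :
    QuasiIso (Psi G sq.w e (le_rfl : f ⁻¹ᵁ U ≤ f ⁻¹ᵁ U) hg (le_rfl : f' ⁻¹ᵁ U' ≤ f' ⁻¹ᵁ U') q) := by
  haveI := flat_Mg G e hGf hU hU'
  let Y : Scheme.{u} := (f ⁻¹ᵁ U : Scheme.{u})
  haveI : CompactSpace Y := isCompact_iff_compactSpace.mp (f.isCompact_preimage hU.isCompact)
  haveI : IsAffine (U : Scheme.{u}) := hU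
  haveI : QuasiSeparatedSpace Y := quasiSeparatedSpace_of_quasiSeparated (f ∣_ U)
  let j : Y ⟶ X := (f ⁻¹ᵁ U).ι
  let P : Y.Opens → Prop := fun O => ∀ (V : X.Opens) (_ : V = j ''ᵁ O) (hV : V ≤ f ⁻¹ᵁ U) (V' : X'.Opens)
    (hVg : V' ≤ g' ⁻¹ᵁ V) (hVf : V' ≤ f' ⁻¹ᵁ U'), V' = g' ⁻¹ᵁ V ⊓ f' ⁻¹ᵁ U' →
      QuasiIso (Psi G sq.w e hV hVg hVf q)
  have hP : ∀ O : Y.Opens, IsCompact (O : Set Y) → P O := by
    refine Groth.Agent.S0015.result Y P ?_ ?_
    · intro O hO V hVeq hV V' hVg hVf hV'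
      exact quasiIso_Psi_affine G e hV hVg hVf R J q sq hU hU' hq
        (hVeq ▸ hO.image_of_isOpenImmersion j) hV'
    · intro O₁ O₂ _ _ h₁ h₂ h₁₂ V hVeq hV V' hVg hVf hV'
      have hsup : V = j ''ᵁ O₁ ⊔ j ''ᵁ O₂ := by
        rw [hVeq]
        exact TopologicalSpace.Opens.ext (Set.image_union _ _ _)
      subst hsup
      have hinf : j ''ᵁ O₁ ⊓ j ''ᵁ O₂ = j ''ᵁ (O₁ ⊓ O₂) :=
        TopologicalSpace.Opens.ext (Set.image_inter j.isOpenEmbedding.injective).symm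
      have hV'' : V' = (g' ⁻¹ᵁ (j ''ᵁ O₁) ⊓ f' ⁻¹ᵁ U') ⊔ (g' ⁻¹ᵁ (j ''ᵁ O₂) ⊓ f' ⁻¹ᵁ U') := by
        rw [hV', Scheme.Hom.preimage_sup, inf_sup_right]
      subst hV''
      exact quasiIso_Psi_sup G e sq.w q (le_sup_left.trans hV) (le_sup_right.trans hV)
        inf_le_left inf_le_right inf_le_left inf_le_right
        (h₁ _ rfl _ _ _ _ rfl) (h₂ _ rfl _ _ _ _ rfl)
        (h₁₂ _ hinf _ _ _ _ (by rw [Scheme.Hom.preimage_inf]; exact (inf_inf_distrib_right _ _ _).symm))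
  refine hP ⊤ isCompact_univ (f ⁻¹ᵁ U) ?_ le_rfl (f' ⁻¹ᵁ U') hg le_rfl (inf_eq_right.2 hg).symm
  rw [Scheme.Hom.image_top_eq_opensRange, Scheme.Opens.opensRange_ι]

end Groth.Agent.CohDer1.BCFlat
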