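import Groth.Agent.CohDer1.BCFlat.Main
import Groth.Agent.CohDer1.BCFlat.Adjoint
import Groth.Agent.EGA43.FibDepth.Unit
import Groth.Agent.Coherent.FreeSections
import Groth.Prelude.Def_CohBC2
import Groth.Prelude.Def_PicLoc

/-!
# The base change morphism along a flat morphism is an isomorphism
-/

set_option autoImplicit false
set_option backward.isDefEq.respectTransparency false
set_option linter.style.haveILetI false
set_option linter.unusedSectionVars false
set_option maxHeartbeats 1000000

universe u

open CategoryTheory CategoryTheory.Limits AlgebraicGeometry Opposite TopologicalSpace HomologicalComplex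
open Groth.Agent.Coherent Groth.Agent.PicLib Groth.Agent.AmpleLib

noncomputable section

namespace Groth.Agent.CohDer1.BCFlat

theorem structureIso_pullSec {X Y : Scheme.{u}} (g : X ⟶ Y) (U : Y.Opens) (b : Γ(Coh.structureModule Y, U)) :
    ((PicLoc.pullbackStructureIso g).hom.app (g ⁻¹ᵁ U)) (pullSec g (L := Coh.structureModule Y) b) =
      (show Γ(Coh.structureModule X, g ⁻¹ᵁ U) from g.app U (show Γ(Y, U) from b)) := by
  have h := SheafOfModules.pullbackPushforwardAdjunction_homEquiv_pullbackObjUnitToUnit g.toRingCatSheafHom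
  rw [Adjunction.homEquiv_unit] at h
  exact congrArg (fun m => (m.val.app (op U)) b) h

section Unit

variable {X S X' S' : Scheme.{u}} (f : X ⟶ S) (g : S' ⟶ S) (g' : X' ⟶ X) (f' : X' ⟶ S')

/-- `g^*N ⊗ O ≅ g^*N`. -/
def rhoBase (N : S.Modules) :
    (baseTwist g (Coh.structureModule S')).obj N ≅ (Scheme.Modules.pullback g).obj N :=
  tensorComm _ _ ≪≫ unitTensorIso _

theorem rhoBase_tmul (N : S.Modules) (U : S'.Opens) (a : Γ((Scheme.Modules.pullback g).obj N, U))
    (b : Γ(Coh.structureModule S', U)) :
    (rhoBase g N).hom.app U (tmul a b) = (show Γ(S', U) from b) • a := by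
  let P := (Scheme.Modules.pullback g).obj N
  have h1 : (tensorSwap P (Coh.structureModule S')).app U (tmul a b) = tmul b a := Bilin.desc_tmul _ U a b
  have h2 : (unitBilin P).desc.app U (tmul b a) = (show Γ(S', U) from b) • a := Bilin.desc_tmul _ U b a
  show (unitBilin P).desc.app U ((tensorSwap P (Coh.structureModule S')).app U (tmul a b)) = _
  rw [h1]
  exact h2

/-- `g^*N ⊗ O ≅ g^*N`, naturally. -/
def rhoBaseNat : baseTwist g (Coh.structureModule S') ≅ Scheme.Modules.pullback g :=
  NatIso.ofComponents (fun N => rhoBase g N) fun {N N'} φ => AmpleLib.hom_ext fun U a b => by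
    refine ((congrArg ((rhoBase g N').hom.app U) (DCat.PullTensor.tensorBi_map_tmul _ U a b)).trans
      (rhoBase_tmul g N' U _ b)).trans ?_
    exact Eq.symm ((congrArg (((Scheme.Modules.pullback g).map φ).app U) (rhoBase_tmul g N U a b)).trans
      (Scheme.Modules.Hom.app_smul _ _ a))

/-- `g'^*N ⊗ f'^*O ≅ g'^*N`. -/
def rhoTwist (N : X.Modules) :
    (twist g' f' (Coh.structureModule S')).obj N ≅ (Scheme.Modules.pullback g').obj N :=
  (DCoh.tensorBi.obj ((Scheme.Modules.pullback g').obj N)).mapIso (PicLoc.pullbackStructureIso f') ≪≫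
    tensorComm _ _ ≪≫ unitTensorIso _

theorem rhoTwist_tmul (N : X.Modules) (U : X'.Opens) (a : Γ((Scheme.Modules.pullback g').obj N, U))
    (b : Γ((Scheme.Modules.pullback f').obj (Coh.structureModule S'), U)) :
    (rhoTwist g' f' N).hom.app U (tmul a b) =
      (show Γ(X', U) from (PicLoc.pullbackStructureIso f').hom.app U b) • a :=
  (congrArg ((unitTensorIso _).hom.app U) ((congrArg ((tensorComm _ _).hom.app U)
    (DCat.PullTensor.tensorBi_obj_map_tmul _ U a b)).trans (Bilin.desc_tmul _ U a _))).trans (Bilin.desc_tmul _ U _ a)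

/-- `g'^*N ⊗ f'^*O ≅ g'^*N`, naturally. -/
def rhoTwistNat : twist g' f' (Coh.structureModule S') ≅ Scheme.Modules.pullback g' :=
  NatIso.ofComponents (fun N => rhoTwist g' f' N) fun {N N'} φ => AmpleLib.hom_ext fun U a b => by
    refine ((congrArg ((rhoTwist g' f' N').hom.app U) (DCat.PullTensor.tensorBi_map_tmul _ U a b)).trans
      (rhoTwist_tmul g' f' N' U _ b)).trans ?_
    exact Eq.symm ((congrArg (((Scheme.Modules.pullback g').map φ).app U) (rhoTwist_tmul g' f' N U a b)).trans
      (Scheme.Modules.Hom.app_smul _ _ a))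

/-- With trivial coefficients the comparison is the base change map. -/
theorem psi_unit (w : g' ≫ f = f' ≫ g) (L : X.Modules) :
    (psi f (Coh.structureModule S') w).app L ≫ (Coh.push f').map (rhoTwist g' f' L).hom =
      (rhoBase g ((Coh.push f).obj L)).hom ≫ CohBC.bc0 f g f' g' w L := by
  refine AmpleLib.hom_ext fun U a b => ?_
  let P := (Scheme.Modules.pullback g').obj L
  let β := CohBC.bc0 f g f' g' w L
  let a' : Γ(P, f' ⁻¹ᵁ U) := β.app U a
  show (rhoTwist g' f' L).hom.app (f' ⁻¹ᵁ U) ((ProjAffine.projA f' P (Coh.structureModule S')).app U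
    (((DCoh.tensorRightMod (Coh.structureModule S')).map β).app U (tmul a b))) =
      β.app U ((rhoBase g ((Coh.push f).obj L)).hom.app U (tmul a b))
  have h1 : ((DCoh.tensorRightMod (Coh.structureModule S')).map β).app U (tmul a b) =
      tmul (show Γ((Scheme.Modules.pushforward f').obj P, U) from a') b :=
    DCat.PullTensor.tensorBi_map_tmul β U a b
  have h2 : (ProjAffine.projA f' P (Coh.structureModule S')).app U
        (tmul (show Γ((Scheme.Modules.pushforward f').obj P, U) from a') b) =
      (show Γ((Scheme.Modules.pushforward f').obj (CohB1.tensorMod P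
          ((Scheme.Modules.pullback f').obj (Coh.structureModule S'))), U) from tmul a' (pullSec f' b)) :=
    ProjAffine.projA_tmul f' P (Coh.structureModule S') U a' b
  have h3 : (rhoTwist g' f' L).hom.app (f' ⁻¹ᵁ U) (tmul a' (pullSec f' b)) =
      f'.app U (show Γ(S', U) from b) • a' :=
    (rhoTwist_tmul g' f' L (f' ⁻¹ᵁ U) a' (pullSec f' b)).trans
      (congrArg (fun r : Γ(X', f' ⁻¹ᵁ U) => r • a') (structureIso_pullSec f' U b))
  refine ((congrArg ((rhoTwist g' f' L).hom.app (f' ⁻¹ᵁ U))
    ((congrArg ((ProjAffine.projA f' P (Coh.structureModule S')).app U) h1).trans h2)).trans h3).trans ?_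
  exact Eq.symm ((congrArg (β.app U) (rhoBase_tmul g _ U a b)).trans (Scheme.Modules.Hom.app_smul β _ a))

end Unit

section Main

variable {X S X' S' : Scheme.{u}} (f : X ⟶ S) (g : S' ⟶ S) (g' : X' ⟶ X) (f' : X' ⟶ S')

/-- The base change morphism of a cartesian square along a flat morphism is an isomorphism. -/
theorem isIso_bcQ (sq : IsPullback g' f' f g) [QuasiCompact f] [QuasiSeparated f] [Flat g]
    [HasInjectiveResolutions X.Modules] [HasInjectiveResolutions X'.Modules]
    [PreservesFiniteLimits (Scheme.Modules.pullback g')] (M : X.Modules) [Coh.IsQCoh M] (i : ℕ) :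
    IsIso (CohBC.bcQ f g f' g' sq.w i M) := by
  let G := Coh.structureModule S'
  haveI hGq : Coh.IsQCoh G := isQCoh_structureModule
  have hGf : FlatMod.IsFlatOver g G := fun x =>
    (EGA43.FibDepth.isFlatOverAt_structureModule g x).2 (Flat.stalkMap g x)
  haveI : PreservesFiniteLimits (baseTwist g G) := (FlatTwist.exact_twist g G hGf).1
  haveI : PreservesFiniteLimits (Scheme.Modules.pullback g) := preservesFiniteLimits_of_natIso (rhoBaseNat g)
  haveI : PreservesLimitsOfSize.{u, u} (Scheme.Modules.pushforward g) :=
    (Scheme.Modules.pullbackPushforwardAdjunction g).rightAdjoint_preservesLimits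
  haveI : PreservesFiniteLimits (Scheme.Modules.pushforward g) := PreservesLimitsOfSize.preservesFiniteLimits _
  haveI : PreservesColimitsOfSize.{u, u} (Scheme.Modules.pullback g) :=
    (Scheme.Modules.pullbackPushforwardAdjunction g).leftAdjoint_preservesColimits
  haveI : PreservesFiniteColimits (Scheme.Modules.pullback g) := PreservesColimitsOfSize.preservesFiniteColimits _
  let adj' := Scheme.Modules.pullbackPushforwardAdjunction g'
  let adj := Scheme.Modules.pullbackPushforwardAdjunction g
  let M' := (Scheme.Modules.pullback g').obj M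
  let η := adj'.unit.app M
  let I := injectiveResolution M
  let P := injectiveResolution ((Scheme.Modules.pushforward g').obj M')
  let J := injectiveResolution M'
  let φ := InjectiveResolution.desc η P I
  let ψ := RDer.descToInjectives (𝟙 ((Scheme.Modules.pushforward g').obj M')) P.cocomplex P.ι
    (((Scheme.Modules.pushforward g').mapHomologicalComplex _).obj J.cocomplex)
    (RDer.mapAug (Scheme.Modules.pushforward g') J.ι)
  let α := (Scheme.Modules.pushforwardComp g' f ≪≫ Scheme.Modules.pushforwardCongr sq.w ≪≫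
    (Scheme.Modules.pushforwardComp f' g).symm)
  let αJ := (NatTrans.mapHomologicalComplex α.hom (ComplexShape.up ℕ)).app J.cocomplex
  let r := φ ≫ ψ
  let χ : ((Coh.push f).mapHomologicalComplex _).obj I.cocomplex ⟶
      ((Scheme.Modules.pushforward g).mapHomologicalComplex _).obj
        (((Coh.push f').mapHomologicalComplex _).obj J.cocomplex) :=
    ((Coh.push f).mapHomologicalComplex _).map r ≫ αJ
  -- the morphism computed on resolutions
  have hAdj : CohBC.bcQAdj f g f' g' sq.w i M =
      (I.isoRightDerivedObj (Coh.push f) i).hom ≫ (homologyMap χ i ≫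
        RDer.homologyComparison (Scheme.Modules.pushforward g)
          (((Coh.push f').mapHomologicalComplex _).obj J.cocomplex) i) ≫
        (Scheme.Modules.pushforward g).map (J.isoRightDerivedObj (Coh.push f') i).inv := by
    have h1 := InjectiveResolution.isoRightDerivedObj_hom_naturality η I P φ
      (InjectiveResolution.desc_commutes_zero η P I) (Coh.push f) i
    have h2 := InjectiveResolution.rightDerived_app_eq α.hom J i
    show (Coh.Rpush f i).map η ≫ RDer.edgeIn (Scheme.Modules.pushforward g') (Scheme.Modules.pushforward f) i M' ≫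
      (RDer.rightDerivedIso α i).hom.app M' ≫
        RDer.edgeOut (Scheme.Modules.pushforward f') (Scheme.Modules.pushforward g) i M' = _
    dsimp only [RDer.edgeIn, RDer.edgeOut, RDer.rightDerivedIso]
    erw [h2]
    simp only [Category.assoc]
    erw [reassoc_of% h1]
    erw [Iso.inv_hom_id_assoc]
    erw [Iso.inv_hom_id_assoc]
    simp only [χ, r, Functor.map_comp, homologyMap_comp, Category.assoc]
    rfl
  -- the map on the pulled back resolution
  let q' : ((Scheme.Modules.pullback g').mapHomologicalComplex _).obj I.cocomplex ⟶ J.cocomplex :=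
    transposeHom adj' r
  let Tw := twist g' f' G
  let J' : InjectiveResolution (Tw.obj M) :=
    { cocomplex := J.cocomplex
      injective := J.injective
      ι := (CochainComplex.single₀ X'.Modules).map (rhoTwist g' f' M).hom ≫ J.ι }
  let q : (Tw.mapHomologicalComplex _).obj I.cocomplex ⟶ J.cocomplex :=
    (NatTrans.mapHomologicalComplex (rhoTwistNat g' f').hom (ComplexShape.up ℕ)).app I.cocomplex ≫ q'
  have hr : I.ι.f 0 ≫ r.f 0 = η ≫ (Scheme.Modules.pushforward g').map (J.ι.f 0) := by
    show I.ι.f 0 ≫ φ.f 0 ≫ ψ.f 0 = _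
    rw [InjectiveResolution.desc_commutes_zero_assoc]
    refine (Category.assoc _ _ _).trans ?_
    refine congrArg (fun z => η ≫ z) ?_
    refine (RDer.ι_descToInjectives_f_zero (𝟙 ((Scheme.Modules.pushforward g').obj M')) P.cocomplex P.ι
      (((Scheme.Modules.pushforward g').mapHomologicalComplex _).obj J.cocomplex)
      (RDer.mapAug (Scheme.Modules.pushforward g') J.ι)).trans ((Category.id_comp _).trans ?_)
    simp [HomologicalComplex.singleMapHomologicalComplex_inv_app_self]
  have hq' : (Scheme.Modules.pullback g').map (I.ι.f 0) ≫ q'.f 0 = J.ι.f 0 := by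
    show (Scheme.Modules.pullback g').map (I.ι.f 0) ≫ (Scheme.Modules.pullback g').map (r.f 0) ≫
      adj'.counit.app (J.cocomplex.X 0) = _
    rw [← Category.assoc, ← Functor.map_comp, hr]
    exact (adj'.homEquiv_counit _ _ _).symm.trans
      ((congrArg (adj'.homEquiv M (J.cocomplex.X 0)).symm (adj'.homEquiv_unit _ _ _).symm).trans
        (Equiv.symm_apply_apply _ _))
  have hq : Tw.map (I.ι.f 0) ≫ q.f 0 = J'.ι.f 0 := by
    show Tw.map (I.ι.f 0) ≫ (rhoTwistNat g' f').hom.app (I.cocomplex.X 0) ≫ q'.f 0 = _
    rw [← Category.assoc, (rhoTwistNat g' f').hom.naturality, Category.assoc]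
    erw [hq']
    simp [J']
    rfl
  let Θ := Theta G sq.w (I := I.cocomplex) (J := J.cocomplex) q
  haveI hΘ : IsIso (homologyMap Θ i) :=
    isIso_homologyMap_of_stalks Θ i fun s' => quasiIsoAt_stalk_Theta G sq.w q s'
      (fun U U' e hg hU hU' => quasiIso_Psi G e I J' q sq hGf hq hU hU' hg) i
  let K := ((Coh.push f).mapHomologicalComplex _).obj I.cocomplex
  have hΘeq : Θ = (NatTrans.mapHomologicalComplex (rhoBaseNat g).hom (ComplexShape.up ℕ)).app K ≫
      transposeHom adj χ := by
    ext k : 1
    have hk : CohBC.bc0 f g f' g' sq.w (I.cocomplex.X k) ≫ (Coh.push f').map (q'.f k) =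
        (transposeHom adj χ).f k := by
      refine (adj.homEquiv_naturality_right_symm _ _).symm.trans ?_
      refine Eq.trans ?_ (adj.homEquiv_counit _ _ _)
      refine congrArg (adj.homEquiv _ _).symm ?_
      have hunit : adj'.unit.app (I.cocomplex.X k) ≫ (Scheme.Modules.pushforward g').map (q'.f k) = r.f k :=
        (adj'.homEquiv_unit _ _ _).symm.trans
          ((congrArg (adj'.homEquiv _ _) (adj'.homEquiv_counit _ _ _).symm).trans (Equiv.apply_symm_apply _ _))
      show ((Coh.push f).map (adj'.unit.app (I.cocomplex.X k)) ≫ α.hom.app _) ≫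
        (Coh.push f' ⋙ Scheme.Modules.pushforward g).map (q'.f k) = _
      rw [Category.assoc]
      erw [← α.hom.naturality (q'.f k)]
      rw [← Category.assoc]
      show ((Coh.push f).map (adj'.unit.app (I.cocomplex.X k)) ≫
        (Coh.push f).map ((Scheme.Modules.pushforward g').map (q'.f k))) ≫ _ = _
      rw [← Functor.map_comp, hunit]
      rfl
    show (psi f G sq.w).app (I.cocomplex.X k) ≫ (Coh.push f').map ((rhoTwist g' f' _).hom ≫ q'.f k) =
      (rhoBase g _).hom ≫ (transposeHom adj χ).f k
    rw [Functor.map_comp, ← Category.assoc, psi_unit, Category.assoc, hk]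
    rfl
  haveI : IsIso (homologyMap (transposeHom adj χ) i) := by
    haveI : IsIso (homologyMap ((NatTrans.mapHomologicalComplex (rhoBaseNat g).hom (ComplexShape.up ℕ)).app K) i) :=
      (homologyMapIso ((NatIso.mapHomologicalComplex (rhoBaseNat g) (ComplexShape.up ℕ)).app K) i).isIso_hom
    have h := hΘ
    rw [hΘeq, homologyMap_comp] at h
    exact IsIso.of_isIso_comp_left (homologyMap
      ((NatTrans.mapHomologicalComplex (rhoBaseNat g).hom (ComplexShape.up ℕ)).app K) i) _
  have hbc : CohBC.bcQ f g f' g' sq.w i M =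
      (Scheme.Modules.pullback g).map (I.isoRightDerivedObj (Coh.push f) i).hom ≫
        (((K.sc i).mapHomologyIso (Scheme.Modules.pullback g)).inv ≫ homologyMap (transposeHom adj χ) i) ≫
          (J.isoRightDerivedObj (Coh.push f') i).inv := by
    show (adj.homEquiv _ _).symm (CohBC.bcQAdj f g f' g' sq.w i M) = _
    rw [hAdj, Adjunction.homEquiv_counit, ← map_homologyMap_comparison]
    simp only [Functor.map_comp, Category.assoc]
    erw [adj.counit.naturality]
    rfl
  rw [hbc]
  infer_instance

end Main

end Groth.Agent.CohDer1.BCFlat
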