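import Groth.Agent.CohDer1.BCFlat.Local
import Groth.Agent.CohDer1.ProjAffine
import Groth.Agent.DQCoh.BCPush17
import Groth.Agent.CohExch.Local0
import Groth.Agent.DCat.PullTensor

/-!
# Germs of `g^*f_*L ⊗ G` and the comparison map
-/

set_option autoImplicit false
set_option backward.isDefEq.respectTransparency false
set_option linter.style.haveILetI false
set_option linter.unusedSectionVars false
set_option maxHeartbeats 1000000

universe u

open CategoryTheory CategoryTheory.Limits AlgebraicGeometry Opposite TopologicalSpace MonoidalCategory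
open CohCmp (sqLE)
open Groth.Agent.Coherent Groth.Agent.PicLib Groth.Agent.AmpleLib Groth.Agent.ModStalk
open scoped TensorProduct

noncomputable section

namespace Groth.Agent.CohDer1.BCFlat

variable {X S X' S' : Scheme.{u}} (f : X ⟶ S) {g : S' ⟶ S} (G : S'.Modules)

variable (g) in
/-- `N ↦ g^*N ⊗ G`. -/
abbrev baseTwist : S.Modules ⥤ S'.Modules := Scheme.Modules.pullback g ⋙ DCoh.tensorRightMod G

variable {U : S.Opens} {U' : S'.Opens} (e : U' ≤ g ⁻¹ᵁ U)

/-- `m ⊗ x ↦ g^*x ⊗ m`. -/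
def theta (L : X.Modules) :
    ModuleCat.of Γ(S, U) (Mg g U U' G e ⊗[Γ(S, U)] (secV f U (f ⁻¹ᵁ U) le_rfl).obj L) ⟶
      (secA (g.appLE U U' e).hom).obj ((baseTwist g G).obj ((Coh.push f).obj L)) :=
  ModuleCat.ofHom (Y := (secA (g.appLE U U' e).hom).obj ((baseTwist g G).obj ((Coh.push f).obj L)))
    (TensorProduct.lift (LinearMap.mk₂ Γ(S, U)
    (fun (m : Mg g U U' G e) (x : (secV f U (f ⁻¹ᵁ U) le_rfl).obj L) =>
      toSec (g.appLE U U' e).hom (N := (baseTwist g G).obj ((Coh.push f).obj L))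
        (tmul (resM _ e (pullSec g (show Γ((Coh.push f).obj L, U) from
          ofSec (f.appLE U (f ⁻¹ᵁ U) le_rfl).hom x))) (ofSec (g.appLE U U' e).hom m)))
    (fun m m' x => congrArg (toSec _) ((congrArg (tmul _) (ofSec_add _ m m')).trans (tmul_add_right _ _ _)))
    (fun a m x => congrArg (toSec _) ((congrArg (tmul _) (ofSec_smul _ a m)).trans (tmul_smul_right _ _ _)))
    (fun m x x' => by
      refine (congrArg (fun z => toSec _ (tmul (resM _ e z) _))
        (map_add (((Scheme.Modules.pullbackPushforwardAdjunction g).unit.app ((Coh.push f).obj L)).app U).hom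
          (show Γ((Coh.push f).obj L, U) from ofSec (f.appLE U (f ⁻¹ᵁ U) le_rfl).hom x)
          (show Γ((Coh.push f).obj L, U) from ofSec (f.appLE U (f ⁻¹ᵁ U) le_rfl).hom x'))).trans ?_
      exact congrArg (toSec _) ((congrArg (fun z => tmul z _) (map_add (resM _ e) _ _)).trans (tmul_add_left _ _ _)))
    (fun a m x => by
      refine congrArg (toSec _) ?_
      have h1 : (show Γ((Coh.push f).obj L, U) from ofSec (f.appLE U (f ⁻¹ᵁ U) le_rfl).hom (a • x)) =
          a • (show Γ((Coh.push f).obj L, U) from ofSec (f.appLE U (f ⁻¹ᵁ U) le_rfl).hom x) := by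
        show f.appLE U (f ⁻¹ᵁ U) le_rfl a • ofSec (f.appLE U (f ⁻¹ᵁ U) le_rfl).hom x =
          f.app U a • ofSec (f.appLE U (f ⁻¹ᵁ U) le_rfl).hom x
        rw [← Scheme.Hom.appLE_eq_app]
      refine (congrArg (fun z => tmul z _) ((congrArg (fun z => resM _ e (pullSec g z)) h1).trans
        (resM_pullSec_smul e _ _))).trans ?_
      exact tmul_smul_left _ _ _)))

/-- The germ of `theta z`. -/
def thetaGerm {s' : S'} (hx : s' ∈ U') (L : X.Modules)
    (z : (secV f U (f ⁻¹ᵁ U) le_rfl ⋙ tensorLeft (Mg g U U' G e)).obj L) :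
    (DerSch.stalkFunctor S' s').obj ((baseTwist g G).obj ((Coh.push f).obj L)) :=
  germP s' (DCoh.toP.obj ((baseTwist g G).obj ((Coh.push f).obj L))) U' hx
    (ofSec (g.appLE U U' e).hom (theta f G e L z))

theorem theta_natural {L L' : X.Modules} (ψ : L ⟶ L')
    (z : (secV f U (f ⁻¹ᵁ U) le_rfl ⋙ tensorLeft (Mg g U U' G e)).obj L) :
    ((baseTwist g G).map ((Coh.push f).map ψ)).app U' (ofSec (g.appLE U U' e).hom (theta f G e L z)) =
      ofSec (g.appLE U U' e).hom
        (theta f G e L' ((secV f U (f ⁻¹ᵁ U) le_rfl ⋙ tensorLeft (Mg g U U' G e)).map ψ z)) := by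
  have h : theta f G e L ≫ (secA (g.appLE U U' e).hom).map ((baseTwist g G).map ((Coh.push f).map ψ)) =
      (secV f U (f ⁻¹ᵁ U) le_rfl ⋙ tensorLeft (Mg g U U' G e)).map ψ ≫ theta f G e L' := by
    refine ModuleCat.MonoidalCategory.tensor_ext fun m x => ?_
    show ((DCoh.tensorRightMod G).map ((Scheme.Modules.pullback g).map ((Coh.push f).map ψ))).app U'
        (tmul (resM _ e (pullSec g (show Γ((Coh.push f).obj L, U) from x))) (show Γ(G, U') from m)) = _
    refine (DCat.PullTensor.tensorBi_map_tmul _ U' _ _).trans ?_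
    rw [app_resM]
    refine congrArg (fun z => tmul (resM _ e z) _) ?_
    exact DCat.PullTensor.pullback_map_pullSec g ((Coh.push f).map ψ) U _
  exact ConcreteCategory.congr_hom h z

theorem thetaGerm_natural {s' : S'} (hx : s' ∈ U') {L L' : X.Modules} (ψ : L ⟶ L')
    (z : (secV f U (f ⁻¹ᵁ U) le_rfl ⋙ tensorLeft (Mg g U U' G e)).obj L) :
    (DerSch.stalkFunctor S' s').map ((baseTwist g G).map ((Coh.push f).map ψ)) (thetaGerm f G e hx L z) =
      thetaGerm f G e hx L' ((secV f U (f ⁻¹ᵁ U) le_rfl ⋙ tensorLeft (Mg g U U' G e)).map ψ z) :=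
  (DCat.PullTensor.stalkMap_germP _ s' U' hx _).trans (congrArg _ (theta_natural f G e ψ z))

/-- Shrinking the open upstairs. -/
theorem exists_shrink {s' : S'} (hx : s' ∈ U') {U'' : S'.Opens} (h : U'' ≤ U') (hx' : s' ∈ U'') (L : X.Modules)
    (z : (secV f U (f ⁻¹ᵁ U) le_rfl ⋙ tensorLeft (Mg g U U' G e)).obj L) :
    ∃ z' : (secV f U (f ⁻¹ᵁ U) le_rfl ⋙ tensorLeft (Mg g U U'' G (h.trans e))).obj L,
      thetaGerm f G (h.trans e) hx' L z' = thetaGerm f G e hx L z ∧
      ofSec (g.appLE U U'' (h.trans e)).hom (theta f G (h.trans e) L z') =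
        resM _ h (ofSec (g.appLE U U' e).hom (theta f G e L z)) ∧
      ∀ {L' : X.Modules} (ψ : L ⟶ L'),
        (secV f U (f ⁻¹ᵁ U) le_rfl ⋙ tensorLeft (Mg g U U' G e)).map ψ z = 0 →
        (secV f U (f ⁻¹ᵁ U) le_rfl ⋙ tensorLeft (Mg g U U'' G (h.trans e))).map ψ z' = 0 := by
  let ρ : Mg g U U' G e →ₗ[Γ(S, U)] Mg g U U'' G (h.trans e) :=
    { toFun := fun m => toSec (g.appLE U U'' (h.trans e)).hom (resM G h (ofSec (g.appLE U U' e).hom m))
      map_add' := fun m m' => congrArg (toSec _) (map_add (resM G h) _ _)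
      map_smul' := fun a m => by
        show resM G h (g.appLE U U' e a • ofSec (g.appLE U U' e).hom m) = g.appLE U U'' (h.trans e) a • _
        rw [resM_smul]
        congr 1
        exact ConcreteCategory.congr_hom (g.appLE_map e (homOfLE h).op) a }
  have key : ∀ w : Mg g U U' G e ⊗[Γ(S, U)] (secV f U (f ⁻¹ᵁ U) le_rfl).obj L,
      ofSec (g.appLE U U'' (h.trans e)).hom
          (theta f G (h.trans e) L (ρ.rTensor ((secV f U (f ⁻¹ᵁ U) le_rfl).obj L) w)) =
        resM _ h (ofSec (g.appLE U U' e).hom (theta f G e L w)) := fun w => by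
    induction w using TensorProduct.induction_on with
    | zero =>
      refine ((congrArg (fun t => ofSec _ (theta f G (h.trans e) L t)) (map_zero _)).trans
        (congrArg (ofSec _) (map_zero (theta f G (h.trans e) L).hom))).trans ?_
      exact ((congrArg (resM _ h) (congrArg (ofSec _) (map_zero (theta f G e L).hom))).trans (map_zero _)).symm
    | add a b ha hb =>
      refine ((congrArg (fun t => ofSec _ (theta f G (h.trans e) L t)) (map_add _ a b)).trans
        (congrArg (ofSec _) (map_add (theta f G (h.trans e) L).hom _ _))).trans ?_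
      refine (ofSec_add _ _ _).trans ((congrArg₂ (· + ·) ha hb).trans ?_)
      exact ((congrArg (resM _ h) ((congrArg (ofSec _) (map_add (theta f G e L).hom a b)).trans
        (ofSec_add _ _ _))).trans (map_add _ _ _)).symm
    | tmul m x =>
      refine Eq.symm ((resM_tmul h _ _).trans ?_)
      rw [resM_resM]
      rfl
  refine ⟨ρ.rTensor ((secV f U (f ⁻¹ᵁ U) le_rfl).obj L) z, ?_, key z, fun {L'} ψ hz => ?_⟩
  · refine (congrArg (germP s' _ U'' hx') (key z)).trans ?_
    exact germP_res (DCoh.toP.obj ((baseTwist g G).obj ((Coh.push f).obj L))) (homOfLE h) hx' _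
  · have hc := LinearMap.congr_fun ((LinearMap.rTensor_comp_lTensor (f := ρ) (g := ((secV f U (f ⁻¹ᵁ U) le_rfl).map ψ).hom)).trans
      (LinearMap.lTensor_comp_rTensor (f := ρ) (g := ((secV f U (f ⁻¹ᵁ U) le_rfl).map ψ).hom)).symm) z
    exact hc.symm.trans ((congrArg (ρ.rTensor _) hz).trans (map_zero _))

/-- An element of the stalk that is a `theta`-germ on all small charts. -/
def Rep {s' : S'} (L : X.Modules)
    (x : (DerSch.stalkFunctor S' s').obj ((baseTwist g G).obj ((Coh.push f).obj L))) : Prop :=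
  ∃ (W : S.Opens) (_ : g.base s' ∈ W) (W' : S'.Opens) (_ : s' ∈ W'),
    ∀ (U : S.Opens) (U' : S'.Opens) (e : U' ≤ g ⁻¹ᵁ U) (hx : s' ∈ U'), U ≤ W → U' ≤ W' →
      ∃ z, thetaGerm f G e hx L z = x

theorem Rep.add {s' : S'} {L : X.Modules}
    {x y : (DerSch.stalkFunctor S' s').obj ((baseTwist g G).obj ((Coh.push f).obj L))}
    (hx : Rep f G L x) (hy : Rep f G L y) : Rep f G L (x + y) := by
  obtain ⟨W, hW, W', hW', h⟩ := hx
  obtain ⟨V, hV, V', hV', k⟩ := hy
  refine ⟨W ⊓ V, ⟨hW, hV⟩, W' ⊓ V', ⟨hW', hV'⟩, fun U U' e hs hU hU' => ?_⟩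
  obtain ⟨z₁, rfl⟩ := h U U' e hs (hU.trans inf_le_left) (hU'.trans inf_le_left)
  obtain ⟨z₂, rfl⟩ := k U U' e hs (hU.trans inf_le_right) (hU'.trans inf_le_right)
  refine ⟨z₁ + z₂, ?_⟩
  refine (congrArg (germP s' _ U' hs) ((congrArg (ofSec _) (map_add (theta f G e L).hom z₁ z₂)).trans
    (ofSec_add _ _ _))).trans ?_
  exact germP_add (DCoh.toP.obj ((baseTwist g G).obj ((Coh.push f).obj L))) U' hs _ _

theorem Rep.zero {s' : S'} (L : X.Modules) : Rep f G (s' := s') (g := g) L 0 :=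
  ⟨⊤, trivial, ⊤, trivial, fun _ U' e hs _ _ => ⟨0,
    (congrArg (germP s' _ U' hs) (congrArg (ofSec _) (map_zero (theta f G e L).hom))).trans
      (germP_zero _ _ _)⟩⟩

/-- Every element of the stalk is a `theta`-germ on all small charts. -/
theorem rep_stalk (s' : S') (L : X.Modules)
    (x : (DerSch.stalkFunctor S' s').obj ((baseTwist g G).obj ((Coh.push f).obj L))) : Rep f G L x := by
  let N := (Coh.push f).obj L
  let P := (Scheme.Modules.pullback g).obj N
  let κ := stalkTensorIso s' P G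
  suffices ∀ (a : (DerSch.stalkFunctor S' s').obj P) (b : (DerSch.stalkFunctor S' s').obj G),
      Rep f G L (κ.inv (a ⊗ₜ b)) by
    have hgen : ∀ w : ((DerSch.stalkFunctor S' s').obj P ⊗ (DerSch.stalkFunctor S' s').obj G : ModuleCat _),
        Rep f G L (κ.inv w) := fun w => by
      induction w using TensorProduct.induction_on with
      | zero => rw [map_zero]; exact Rep.zero f G L
      | add a b ha hb => rw [map_add]; exact ha.add f G hb
      | tmul a b => exact this a b
    have := hgen (κ.hom x)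
    rwa [Iso.hom_inv_id_apply] at this
  intro a
  let π := (pullbackStalkIso g s').app N
  suffices ∀ (c : (ModuleCat.extendScalars (g.stalkMap s').hom).obj ((DerSch.stalkFunctor S (g.base s')).obj N))
      (b : (DerSch.stalkFunctor S' s').obj G), Rep f G L (κ.inv ((π.inv c) ⊗ₜ b)) by
    have h := this (π.hom a)
    rwa [Iso.hom_inv_id_apply] at h
  intro c
  induction c using TensorProduct.induction_on with
  | zero =>
    intro b
    rw [map_zero, TensorProduct.zero_tmul, map_zero]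
    exact Rep.zero f G L
  | add c₁ c₂ h₁ h₂ =>
    intro b
    rw [map_add, TensorProduct.add_tmul, map_add]
    exact (h₁ b).add f G (h₂ b)
  | tmul r n =>
    intro b
    change S'.presheaf.stalk s' at r
    obtain ⟨W, hW, n₀, rfl⟩ := exists_germP_eq (DCoh.toP.obj N) n
    obtain ⟨W', hW', b₀, hb₀⟩ := exists_germP_eq (DCoh.toP.obj G) (r • b : (DerSch.stalkFunctor S' s').obj G)
    have hπ : ∀ (c : (ModuleCat.extendScalars (g.stalkMap s').hom).obj ((DerSch.stalkFunctor S (g.base s')).obj N)),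
        π.inv (r • c) = r • π.inv c := fun c => map_smul π.inv.hom r c
    have hrw : (π.inv (r ⊗ₜ germP (g.base s') (DCoh.toP.obj N) W hW n₀ :
          (ModuleCat.extendScalars (g.stalkMap s').hom).obj ((DerSch.stalkFunctor S (g.base s')).obj N))) ⊗ₜ[S'.presheaf.stalk s'] b =
        germP s' (DCoh.toP.obj P) (g ⁻¹ᵁ W) hW (pullSec g (show Γ(N, W) from n₀)) ⊗ₜ[S'.presheaf.stalk s'] (r • b) := by
      refine Eq.trans (congrArg (fun t => t ⊗ₜ[S'.presheaf.stalk s'] b) ?_)
        (TensorProduct.smul_tmul r (germP s' (DCoh.toP.obj P) (g ⁻¹ᵁ W) hW (pullSec g (show Γ(N, W) from n₀))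
          : (DerSch.stalkFunctor S' s').obj P) b)
      apply (ConcreteCategory.bijective_of_isIso π.hom).1
      refine (Iso.inv_hom_id_apply π _).trans ((Eq.trans (map_smul π.hom.hom r _) ?_).symm)
      refine (congrArg (r • ·) (DCat.PullTensor.pullbackStalk_germ g s' N W hW n₀)).trans ?_
      exact (ModuleCat.ExtendScalars.smul_tmul _ r 1 _).trans (by rw [mul_one])
    rw [hrw, ← hb₀]
    refine ⟨W, hW, W', hW', fun U U' e hs hU hU' => ?_⟩
    refine ⟨(toSec (g.appLE U U' e).hom (resM G hU' b₀) : Mg g U U' G e) ⊗ₜ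
      (toSec (f.appLE U (f ⁻¹ᵁ U) le_rfl).hom (show Γ(L, f ⁻¹ᵁ U) from resM N hU n₀) :
        (secV f U (f ⁻¹ᵁ U) le_rfl).obj L), ?_⟩
    show germP s' (DCoh.toP.obj (CohB1.tensorMod P G)) U' hs
      (tmul (resM P e (pullSec g (resM N hU n₀))) (resM G hU' b₀)) = _
    apply (ConcreteCategory.bijective_of_isIso κ.hom).1
    refine (DCat.PullTensor.stalkTensor_germ s' P G U' hs _ _).trans
      (Eq.trans ?_ (Iso.inv_hom_id_apply κ _).symm)
    refine congrArg₂ (fun u v => u ⊗ₜ v) ?_ ?_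
    · rw [← resM_pullSec g hU, resM_resM]
      exact germP_res (DCoh.toP.obj P) (homOfLE (e.trans (g.preimage_mono hU))) hs _
    · exact germP_res (DCoh.toP.obj G) (homOfLE hU') hs _

/-- The comparison `g^*f_*L ⊗ G ⟶ f'_*(g'^*L ⊗ f'^*G)`. -/
def psi {g' : X' ⟶ X} {f' : X' ⟶ S'} (w : g' ≫ f = f' ≫ g) :
    Coh.push f ⋙ baseTwist g G ⟶ twist g' f' G ⋙ Coh.push f' :=
  Functor.whiskerRight (DQCoh.BCPush17.bcNat f g f' g' w) (DCoh.tensorRightMod G) ≫
    Functor.whiskerLeft (Scheme.Modules.pullback g') (ProjAffine.projNatA f' G)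

/-- The comparison over a chart. -/
theorem psi_theta {g' : X' ⟶ X} {f' : X' ⟶ S'} (w : g' ≫ f = f' ≫ g) (L : X.Modules)
    (hg : f' ⁻¹ᵁ U' ≤ g' ⁻¹ᵁ (f ⁻¹ᵁ U))
    (z : (secV f U (f ⁻¹ᵁ U) le_rfl ⋙ tensorLeft (Mg g U U' G e)).obj L) :
    ((psi f G w).app L).app U' (ofSec (g.appLE U U' e).hom (theta f G e L z)) =
      (show Γ((Coh.push f').obj ((twist g' f' G).obj L), U') from
        ofSec ((f'.appLE U' (f' ⁻¹ᵁ U') le_rfl).hom.comp (g.appLE U U' e).hom) ((eta G w e (le_rfl : f ⁻¹ᵁ U ≤ f ⁻¹ᵁ U) hg (le_rfl : f' ⁻¹ᵁ U' ≤ f' ⁻¹ᵁ U')).app L z)) := by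
  let P := (Scheme.Modules.pullback g').obj L
  change Mg g U U' G e ⊗[Γ(S, U)] (secV f U (f ⁻¹ᵁ U) le_rfl).obj L at z
  induction z using TensorProduct.induction_on with
  | zero =>
    refine (congrArg (((psi f G w).app L).app U') (congrArg (ofSec _) (map_zero (theta f G e L).hom))).trans ?_
    refine (map_zero (((psi f G w).app L).app U').hom).trans ?_
    exact (congrArg (ofSec _) (map_zero ((eta G w e le_rfl hg le_rfl).app L).hom)).symm
  | add a b ha hb =>
    refine (congrArg (((psi f G w).app L).app U') ((congrArg (ofSec _) (map_add (theta f G e L).hom a b)).trans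
      (ofSec_add _ _ _))).trans ?_
    refine (map_add (((psi f G w).app L).app U').hom _ _).trans ((congrArg₂ (· + ·) ha hb).trans ?_)
    exact ((congrArg (ofSec _) (map_add ((eta G w e le_rfl hg le_rfl).app L).hom a b)).trans
      (ofSec_add _ _ _)).symm
  | tmul m x =>
    let x₀ : Γ(L, f ⁻¹ᵁ U) := ofSec (f.appLE U (f ⁻¹ᵁ U) le_rfl).hom x
    let m₀ : Γ(G, U') := ofSec (g.appLE U U' e).hom m
    let P₁ := (Scheme.Modules.pushforward f').obj P
    let β := CohBC.bc0 f g f' g' w L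
    let s : Γ((Scheme.Modules.pullback g).obj ((Coh.push f).obj L), g ⁻¹ᵁ U) :=
      pullSec g (show Γ((Coh.push f).obj L, U) from x₀)
    let r : Γ(P, f' ⁻¹ᵁ U') := resM P hg (pullSec g' x₀)
    have h1 : β.app U' (resM _ e s) = resM P₁ e (β.app (g ⁻¹ᵁ U) s) := app_resM β e s
    have h2 : β.app (g ⁻¹ᵁ U) s =
        (show Γ(P₁, g ⁻¹ᵁ U) from resM P (sqLE f g f' g' w U) (pullSec g' x₀)) :=
      CohExch.bc0_pullSec w L U x₀
    have h3 : resM P₁ e (show Γ(P₁, g ⁻¹ᵁ U) from resM P (sqLE f g f' g' w U) (pullSec g' x₀)) =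
        (show Γ(P₁, U') from r) :=
      resM_resM P (sqLE f g f' g' w U) (f'.preimage_mono e) _
    have h4 : β.app U' (resM _ e s) = (show Γ(P₁, U') from r) :=
      h1.trans ((congrArg (resM P₁ e) h2).trans h3)
    have h5 : ((DCoh.tensorRightMod G).map β).app U' (tmul (resM _ e s) m₀) =
        tmul (show Γ(P₁, U') from r) m₀ :=
      (DCat.PullTensor.tensorBi_map_tmul β U' _ _).trans (congrArg (fun t => tmul t m₀) h4)
    have h6 : (ProjAffine.projA f' P G).app U' (tmul (show Γ(P₁, U') from r) m₀) =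
        (show Γ((Scheme.Modules.pushforward f').obj (CohB1.tensorMod P ((Scheme.Modules.pullback f').obj G)), U')
          from tmul r (pullSec f' m₀)) :=
      ProjAffine.projA_tmul f' P G U' r m₀
    refine ((congrArg ((ProjAffine.projA f' P G).app U') h5).trans h6).trans ?_
    exact congrArg (fun v => tmul r v) (resM_refl _ _).symm

end Groth.Agent.CohDer1.BCFlat
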