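import Mathlib.Algebra.Homology.HomologySequenceLemmas
import Mathlib.Algebra.Homology.ShortComplex.ModuleCat
import Mathlib.Algebra.Homology.QuasiIso
import Mathlib.CategoryTheory.Abelian.Injective.Resolution

/-!
# Homological lemmas for flat base change of higher direct images

An element criterion for quasi-isomorphisms, the two-out-of-three property for the first term of a
short exact sequence of complexes, and extension of maps into injective resolutions.
-/

set_option autoImplicit false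
set_option backward.isDefEq.respectTransparency false
set_option linter.style.haveILetI false
set_option linter.unusedSectionVars false

universe v u

open CategoryTheory CategoryTheory.Limits

namespace Groth.Agent.CohDer1.BCFlat

section Elements

variable {R : Type u} [Ring R] {S T : ShortComplex (ModuleCat.{v} R)} (φ : S ⟶ T)

/-- Element criterion for quasi-isomorphisms of short complexes of modules. -/
theorem quasiIso_iff_elements :
    ShortComplex.QuasiIso φ ↔
      (∀ x : T.X₂, T.g x = 0 → ∃ y : S.X₂, S.g y = 0 ∧ ∃ z : T.X₁, φ.τ₂ y + T.f z = x) ∧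
      (∀ y : S.X₂, S.g y = 0 → ∀ z : T.X₁, φ.τ₂ y = T.f z → ∃ w : S.X₁, S.f w = y) := by
  let γ : ShortComplex.LeftHomologyMapData φ S.moduleCatLeftHomologyData T.moduleCatLeftHomologyData :=
    default
  have hK : ∀ k : LinearMap.ker S.g.hom, (γ.φK k : LinearMap.ker T.g.hom).1 = φ.τ₂ k.1 := fun k => by
    exact ConcreteCategory.congr_hom γ.commi k
  have hH : ∀ k : LinearMap.ker S.g.hom,
      γ.φH (Submodule.Quotient.mk k : (LinearMap.ker S.g.hom) ⧸ LinearMap.range S.moduleCatToCycles) =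
        (Submodule.Quotient.mk (γ.φK k : LinearMap.ker T.g.hom) :
          (LinearMap.ker T.g.hom) ⧸ LinearMap.range T.moduleCatToCycles) := fun k => by
    exact ConcreteCategory.congr_hom γ.commπ k
  rw [γ.quasiIso_iff, ConcreteCategory.isIso_iff_bijective]
  constructor
  · intro hb
    refine ⟨fun x hx => ?_, fun y hy z hz => ?_⟩
    · obtain ⟨q, hq⟩ := hb.2 (Submodule.Quotient.mk (⟨x, hx⟩ : LinearMap.ker T.g.hom) :
        (LinearMap.ker T.g.hom) ⧸ LinearMap.range T.moduleCatToCycles)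
      obtain ⟨k, rfl⟩ := Submodule.Quotient.mk_surjective _ q
      obtain ⟨z, hz⟩ := (Submodule.Quotient.eq _).1 ((hH k).symm.trans hq)
      refine ⟨k.1, k.2, -z, ?_⟩
      have hz' : T.f z = φ.τ₂ k.1 - x := (congrArg Subtype.val hz).trans (by rw [← hK k]; rfl)
      rw [map_neg, hz']
      abel
    · have h0 : γ.φH (Submodule.Quotient.mk (⟨y, hy⟩ : LinearMap.ker S.g.hom) :
          (LinearMap.ker S.g.hom) ⧸ LinearMap.range S.moduleCatToCycles) = γ.φH 0 := by
        rw [map_zero, hH]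
        exact (Submodule.Quotient.mk_eq_zero _).2 ⟨z, Subtype.ext (by rw [hK]; exact hz.symm)⟩
      obtain ⟨w, hw⟩ := (Submodule.Quotient.mk_eq_zero _).1 (hb.1 h0)
      exact ⟨w, congrArg Subtype.val hw⟩
  · rintro ⟨hs, hi⟩
    refine ⟨(injective_iff_map_eq_zero _).2 fun q hq => ?_, fun q => ?_⟩
    · obtain ⟨k, rfl⟩ := Submodule.Quotient.mk_surjective _ q
      rw [hH] at hq
      obtain ⟨z, hz⟩ := (Submodule.Quotient.mk_eq_zero _).1 hq
      obtain ⟨w, hw⟩ := hi k.1 k.2 z ((hK k).symm.trans (congrArg Subtype.val hz).symm)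
      exact (Submodule.Quotient.mk_eq_zero _).2 ⟨w, Subtype.ext hw⟩
    · obtain ⟨k, rfl⟩ := Submodule.Quotient.mk_surjective _ q
      obtain ⟨y, hy, z, hz⟩ := hs k.1 k.2
      refine ⟨(Submodule.Quotient.mk (⟨y, hy⟩ : LinearMap.ker S.g.hom) :
          (LinearMap.ker S.g.hom) ⧸ LinearMap.range S.moduleCatToCycles), ?_⟩
      rw [hH]
      refine (Submodule.Quotient.eq _).2 ⟨-z, Subtype.ext ?_⟩
      show T.f (-z) = (γ.φK ⟨y, hy⟩ : LinearMap.ker T.g.hom).1 - k.1
      rw [hK, map_neg, ← hz]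
      abel

/-- Element criterion, for cochain complexes. -/
theorem quasiIsoAt_iff_elements {K L : CochainComplex (ModuleCat.{v} R) ℕ} (f : K ⟶ L) (n : ℕ) :
    QuasiIsoAt f n ↔
      (∀ x : L.X n, L.d n (n + 1) x = 0 →
        ∃ y : K.X n, K.d n (n + 1) y = 0 ∧
          ∃ z : L.X ((ComplexShape.up ℕ).prev n), f.f n y + L.d _ n z = x) ∧
      (∀ y : K.X n, K.d n (n + 1) y = 0 →
        ∀ z : L.X ((ComplexShape.up ℕ).prev n), f.f n y = L.d _ n z →
          ∃ w : K.X ((ComplexShape.up ℕ).prev n), K.d _ n w = y) := by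
  rw [quasiIsoAt_iff' f ((ComplexShape.up ℕ).prev n) n (n + 1) rfl (by simp)]
  exact quasiIso_iff_elements _

end Elements

section Tau1

variable {C : Type u} [Category.{v} C] [Abelian C]
  {S₁ S₂ : ShortComplex (CochainComplex C ℕ)} (φ : S₁ ⟶ S₂)

open HomologicalComplex HomologySequence ComposableArrows in
/-- If two out of three maps are quasi-isomorphisms, so is the first. -/
theorem quasiIso_τ₁ (hS₁ : S₁.ShortExact) (hS₂ : S₂.ShortExact)
    (h₂ : QuasiIso φ.τ₂) (h₃ : QuasiIso φ.τ₃) : QuasiIso φ.τ₁ := by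
  rw [quasiIso_iff]
  intro j
  rw [quasiIsoAt_iff_isIso_homologyMap]
  rcases j with _ | i
  · have hne : ∀ i, ¬ (ComplexShape.up ℕ).Rel i 0 := fun i h => by simp at h
    haveI := hS₂.mono_f
    haveI := hS₁.mono_f
    haveI : Mono (homologyMap S₁.f 0) := mono_homologyMap_of_mono_of_not_rel _ _ hne
    haveI : Mono (homologyMap S₂.f 0) := mono_homologyMap_of_mono_of_not_rel _ _ hne
    haveI : Mono (homologyMap φ.τ₁ 0) := by
      have e : homologyMap φ.τ₁ 0 ≫ homologyMap S₂.f 0 = homologyMap S₁.f 0 ≫ homologyMap φ.τ₂ 0 := by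
        simp only [← homologyMap_comp, φ.comm₁₂]
      haveI : Mono (homologyMap φ.τ₁ 0 ≫ homologyMap S₂.f 0) := by
        rw [e]; infer_instance
      exact mono_of_mono _ (homologyMap S₂.f 0)
    haveI : Epi (homologyMap φ.τ₁ 0) :=
      Abelian.epi_of_mono_of_epi_of_mono (mapComposableArrows₂ φ 0)
        (composableArrows₂_exact hS₁ 0) (composableArrows₂_exact hS₂ 0)
        (inferInstanceAs (Mono (homologyMap S₂.f 0)))
        (inferInstanceAs (Epi (homologyMap φ.τ₂ 0)))
        (inferInstanceAs (Mono (homologyMap φ.τ₃ 0)))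
    exact isIso_of_mono_of_epi _
  · have hij : (ComplexShape.up ℕ).Rel i (i + 1) := rfl
    exact Abelian.isIso_of_epi_of_isIso_of_isIso_of_mono
      (φ := δ₀Functor.map (mapComposableArrows₅ φ hS₁ hS₂ i (i + 1) hij))
      (composableArrows₅_exact hS₁ i (i + 1) hij).δ₀
      (composableArrows₅_exact hS₂ i (i + 1) hij).δ₀
      (inferInstanceAs (Epi (homologyMap φ.τ₂ i)))
      (inferInstanceAs (IsIso (homologyMap φ.τ₃ i)))
      (inferInstanceAs (IsIso (homologyMap φ.τ₂ (i + 1))))
      (inferInstanceAs (Mono (homologyMap φ.τ₃ (i + 1))))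

end Tau1

section Extend

variable {C : Type u} [Category.{v} C] [Abelian C] {D : Type u} [Category.{v} D] [Abelian D]
  (T : C ⥤ D) [T.PreservesZeroMorphisms] [T.PreservesHomology] [PreservesFiniteLimits T]

/-- Extension of a map `T F ⟶ G` to resolutions, for an exact functor `T`. -/
theorem exists_extend {F : C} (I : InjectiveResolution F) {G : D} (J : InjectiveResolution G)
    (a : T.obj F ⟶ G) :
    ∃ q : (T.mapHomologicalComplex _).obj I.cocomplex ⟶ J.cocomplex,
      T.map (I.ι.f 0) ≫ q.f 0 = a ≫ J.ι.f 0 := by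
  let q0 : T.obj (I.cocomplex.X 0) ⟶ J.cocomplex.X 0 :=
    Injective.factorThru (a ≫ J.ι.f 0) (T.map (I.ι.f 0))
  have hq0 : T.map (I.ι.f 0) ≫ q0 = a ≫ J.ι.f 0 := Injective.comp_factorThru _ _
  have hw : T.map (I.ι.f 0) ≫ (q0 ≫ J.cocomplex.d 0 1) = 0 := by
    rw [← Category.assoc, hq0, Category.assoc]
    exact (congrArg (fun z => a ≫ z) J.ι_f_zero_comp_complex_d).trans Limits.comp_zero
  let q1 : T.obj (I.cocomplex.X 1) ⟶ J.cocomplex.X 1 :=
    (I.exact₀.map T).descToInjective (q0 ≫ J.cocomplex.d 0 1) hw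
  have hq1 : T.map (I.cocomplex.d 0 1) ≫ q1 = q0 ≫ J.cocomplex.d 0 1 :=
    (I.exact₀.map T).comp_descToInjective _ _
  refine ⟨CochainComplex.mkHom ((T.mapHomologicalComplex _).obj I.cocomplex) J.cocomplex q0 q1 hq1.symm
    (fun n p => ⟨((I.exact_succ n).map T).descToInjective (p.2.1 ≫ J.cocomplex.d (n + 1) (n + 2)) ?_,
      (((I.exact_succ n).map T).comp_descToInjective _ _).symm⟩), by simpa using hq0⟩
  have h' : p.1 ≫ J.cocomplex.d n (n + 1) = T.map (I.cocomplex.d n (n + 1)) ≫ p.2.1 := p.2.2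
  show T.map (I.cocomplex.d n (n + 1)) ≫ p.2.1 ≫ J.cocomplex.d (n + 1) (n + 2) = 0
  rw [← Category.assoc, ← h', Category.assoc, HomologicalComplex.d_comp_d, Limits.comp_zero]

end Extend

end Groth.Agent.CohDer1.BCFlat
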