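import Groth.Agent.CohDer1.BCFlat.Homol
import Groth.Agent.Coherent.TensorSections
import Groth.Agent.Coherent.ModExt
import Groth.Agent.Coherent.PullUnit
import Groth.Agent.Coherent.QcohSections
import Groth.Prelude.Def_KoszTw
import Mathlib.Algebra.Category.ModuleCat.Monoidal.Basic
import Mathlib.RingTheory.Flat.Basic

/-!
# The comparison of sections over a chart
-/

set_option autoImplicit false
set_option backward.isDefEq.respectTransparency false
set_option linter.style.haveILetI false
set_option linter.unusedSectionVars false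
set_option maxHeartbeats 1000000

universe u

open CategoryTheory CategoryTheory.Limits AlgebraicGeometry Opposite TopologicalSpace MonoidalCategory
open Groth.Agent.Coherent Groth.Agent.PicLib Groth.Agent.AmpleLib
open scoped TensorProduct

noncomputable section

namespace Groth.Agent.CohDer1.BCFlat

variable {X S X' S' : Scheme.{u}}

/-- Sections over an open as modules over a ring mapping to the functions. -/
def secA {A : Type u} [CommRing A] {V : X.Opens} (φ : A →+* Γ(X, V)) :
    X.Modules ⥤ ModuleCat.{u} A where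
  obj N := (ModuleCat.restrictScalars φ).obj (N.val.obj (op V))
  map ψ := (ModuleCat.restrictScalars φ).map (ψ.val.app (op V))

/-- A section as an element of `secA`. -/
def toSec {A : Type u} [CommRing A] {V : X.Opens} (φ : A →+* Γ(X, V)) {N : X.Modules}
    (x : Γ(N, V)) : (secA φ).obj N := x

/-- An element of `secA` as a section. -/
def ofSec {A : Type u} [CommRing A] {V : X.Opens} (φ : A →+* Γ(X, V)) {N : X.Modules}
    (x : (secA φ).obj N) : Γ(N, V) := x

theorem ofSec_smul {A : Type u} [CommRing A] {V : X.Opens} (φ : A →+* Γ(X, V)) {N : X.Modules}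
    (a : A) (x : (secA φ).obj N) : ofSec φ (a • x) = φ a • ofSec φ x := rfl

theorem ofSec_add {A : Type u} [CommRing A] {V : X.Opens} (φ : A →+* Γ(X, V)) {N : X.Modules}
    (x y : (secA φ).obj N) : ofSec φ (x + y) = ofSec φ x + ofSec φ y := rfl

instance {A : Type u} [CommRing A] {V : X.Opens} (φ : A →+* Γ(X, V)) : (secA φ).Additive where
  map_add := by intros; rfl

/-- Gluing two sections. -/
theorem exists_resM_pair (N : X.Modules) (V W : X.Opens) (a : Γ(N, V)) (b : Γ(N, W))
    (h : resM N (inf_le_left : V ⊓ W ≤ V) a = resM N (inf_le_right : V ⊓ W ≤ W) b) :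
    ∃ s : Γ(N, V ⊔ W), resM N le_sup_left s = a ∧ resM N le_sup_right s = b := by
  let U : Bool → X.Opens := fun i => if i then V else W
  let fam : ∀ i : Bool, Γ(N, U i) :=
    fun i => Bool.rec (motive := fun i => Γ(N, U i)) b a i
  have hle : ∀ i, U i ≤ V ⊔ W := fun i => by cases i <;> simp [U]
  have hcov : V ⊔ W ≤ iSup U := sup_le (le_iSup U true) (le_iSup U false)
  have hc : TopCat.Presheaf.IsCompatible N.presheaf U fam := by
    rintro (_ | _) (_ | _)
    · rfl
    · have e : W ⊓ V ≤ V ⊓ W := by rw [inf_comm]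
      have := congrArg (resM N e) h
      rw [resM_resM, resM_resM] at this
      exact this.symm
    · exact h
    · rfl
  obtain ⟨s, hs, -⟩ := TopCat.Sheaf.existsUnique_gluing' (⟨N.presheaf, N.isSheaf⟩ : TopCat.Sheaf Ab X)
    U (V ⊔ W) (fun i => homOfLE (hle i)) hcov fam hc
  exact ⟨s, hs true, hs false⟩

theorem eq_of_resM_pair (N : X.Modules) (V W : X.Opens) (s t : Γ(N, V ⊔ W))
    (h₁ : resM N le_sup_left s = resM N le_sup_left t)
    (h₂ : resM N le_sup_right s = resM N le_sup_right t) : s = t :=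
  TopCat.Sheaf.eq_of_locally_eq₂ (⟨N.presheaf, N.isSheaf⟩ : TopCat.Sheaf Ab X)
    (homOfLE le_sup_left) (homOfLE le_sup_right) le_rfl s t h₁ h₂

theorem surjective_resM_of_injective (I : X.Modules) [Injective I] {V W : X.Opens} (h : W ≤ V) :
    Function.Surjective (resM I h) :=
  haveI := isFlasque_toAb_of_injective I
  (AddCommGrpCat.epi_iff_surjective _).1
    (TopCat.Presheaf.IsFlasque.epi (F := (Coh.toAb I : TopCat.Sheaf AddCommGrpCat.{u} X.toTopCat).obj) (homOfLE h).op)

section Bicartesian

variable {A : Type u} [CommRing A]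

/-- A square of complexes of modules which is bicartesian in each degree gives a short exact sequence. -/
theorem shortExact_square {ι : Type*} {c : ComplexShape ι} {P Q₁ Q₂ R : HomologicalComplex (ModuleCat.{u} A) c}
    (a : P ⟶ Q₁) (b : P ⟶ Q₂) (d : Q₁ ⟶ R) (e : Q₂ ⟶ R) (w : a ≫ d = b ≫ e)
    (h₁ : ∀ k (x : P.X k), a.f k x = 0 → b.f k x = 0 → x = 0)
    (h₂ : ∀ k (y₁ : Q₁.X k) (y₂ : Q₂.X k), d.f k y₁ = e.f k y₂ → ∃ x : P.X k, a.f k x = y₁ ∧ b.f k x = y₂)
    (h₃ : ∀ k, Function.Surjective (d.f k)) :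
    (ShortComplex.mk (biprod.lift a b) (biprod.desc d (-e))
      (by rw [biprod.lift_desc, Preadditive.comp_neg, w, add_neg_cancel])).ShortExact := by
  have hfst : ∀ k (x : P.X k), (biprod.fst : Q₁ ⊞ Q₂ ⟶ _).f k ((biprod.lift a b).f k x) = a.f k x :=
    fun k x => by
      rw [← ConcreteCategory.comp_apply, ← HomologicalComplex.comp_f, biprod.lift_fst]
  have hsnd : ∀ k (x : P.X k), (biprod.snd : Q₁ ⊞ Q₂ ⟶ _).f k ((biprod.lift a b).f k x) = b.f k x :=
    fun k x => by
      rw [← ConcreteCategory.comp_apply, ← HomologicalComplex.comp_f, biprod.lift_snd]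
  have htot : ∀ k (y : (Q₁ ⊞ Q₂).X k), (biprod.inl : Q₁ ⟶ Q₁ ⊞ Q₂).f k ((biprod.fst : Q₁ ⊞ Q₂ ⟶ _).f k y) +
      (biprod.inr : Q₂ ⟶ Q₁ ⊞ Q₂).f k ((biprod.snd : Q₁ ⊞ Q₂ ⟶ _).f k y) = y := fun k y => by
    exact ConcreteCategory.congr_hom (HomologicalComplex.congr_hom (biprod.total (X := Q₁) (Y := Q₂)) k) y
  have hinl : ∀ k (y : Q₁.X k), (biprod.desc d (-e)).f k ((biprod.inl : Q₁ ⟶ Q₁ ⊞ Q₂).f k y) = d.f k y :=
    fun k y => by rw [← ConcreteCategory.comp_apply, ← HomologicalComplex.comp_f, biprod.inl_desc]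
  have hinr : ∀ k (y : Q₂.X k), (biprod.desc d (-e)).f k ((biprod.inr : Q₂ ⟶ Q₁ ⊞ Q₂).f k y) = -e.f k y :=
    fun k y => by
      rw [← ConcreteCategory.comp_apply, ← HomologicalComplex.comp_f, biprod.inr_desc]
      rfl
  refine HomologicalComplex.shortExact_of_degreewise_shortExact _ fun k => ?_
  refine ModuleCat.shortComplex_shortExact _ ?_ ?_ ?_
  · intro y
    refine ⟨fun hy => ?_, fun ⟨x, hx⟩ => ?_⟩
    · have hy' : (biprod.desc d (-e)).f k y = 0 := hy
      rw [← htot k y, map_add, hinl, hinr, ← sub_eq_add_neg, sub_eq_zero] at hy'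
      obtain ⟨x, hx₁, hx₂⟩ := h₂ k _ _ hy'
      refine ⟨x, ?_⟩
      show (biprod.lift a b).f k x = y
      rw [← htot k y, ← htot k ((biprod.lift a b).f k x), hfst, hsnd, hx₁, hx₂]
    · subst hx
      show (biprod.desc d (-e)).f k ((biprod.lift a b).f k x) = 0
      rw [← ConcreteCategory.comp_apply, ← HomologicalComplex.comp_f, biprod.lift_desc,
        Preadditive.comp_neg, w, add_neg_cancel]
      rfl
  · refine (injective_iff_map_eq_zero _).2 fun x hx => ?_
    have hx' : (biprod.lift a b).f k x = 0 := hx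
    refine h₁ k x ?_ ?_
    · rw [← hfst, hx', map_zero]
    · rw [← hsnd, hx', map_zero]
  · intro r
    obtain ⟨y, rfl⟩ := h₃ k r
    exact ⟨_, hinl k y⟩

/-- A biproduct of quasi-isomorphisms is one. -/
theorem quasiIso_biprod_map {ι : Type*} {c : ComplexShape ι} {C : Type*} [Category* C] [Abelian C]
    {P₁ P₂ Q₁ Q₂ : HomologicalComplex C c} (a : P₁ ⟶ Q₁) (b : P₂ ⟶ Q₂) [QuasiIso a] [QuasiIso b] :
    QuasiIso (biprod.map a b) := by
  rw [quasiIso_iff]
  intro i
  rw [quasiIsoAt_iff_isIso_homologyMap]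
  refine ⟨HomologicalComplex.homologyMap biprod.fst i ≫ inv (HomologicalComplex.homologyMap a i) ≫
      HomologicalComplex.homologyMap biprod.inl i +
      HomologicalComplex.homologyMap biprod.snd i ≫ inv (HomologicalComplex.homologyMap b i) ≫
      HomologicalComplex.homologyMap biprod.inr i, ?_, ?_⟩
  · simp only [Preadditive.comp_add, ← HomologicalComplex.homologyMap_comp_assoc, biprod.map_fst,
      biprod.map_snd]
    simp only [HomologicalComplex.homologyMap_comp, Category.assoc, IsIso.hom_inv_id_assoc]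
    simp only [← HomologicalComplex.homologyMap_comp, ← HomologicalComplex.homologyMap_add, biprod.total,
      HomologicalComplex.homologyMap_id]
  · simp only [Preadditive.add_comp, Category.assoc, ← HomologicalComplex.homologyMap_comp,
      biprod.inl_map, biprod.inr_map]
    simp only [HomologicalComplex.homologyMap_comp, IsIso.inv_hom_id_assoc]
    simp only [← HomologicalComplex.homologyMap_comp, ← HomologicalComplex.homologyMap_add, biprod.total,
      HomologicalComplex.homologyMap_id]

end Bicartesian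

section Chart

variable {f : X ⟶ S} {g : S' ⟶ S} {g' : X' ⟶ X} {f' : X' ⟶ S'} {U : S.Opens} {U' : S'.Opens}

variable (g U U') in
/-- The sections of `G` over `U'` as a module over `Γ(S, U)`. -/
def Mg (G : S'.Modules) (e : U' ≤ g ⁻¹ᵁ U) : ModuleCat.{u} Γ(S, U) :=
  (secA (g.appLE U U' e).hom).obj G

variable (g' f') in
/-- `N ↦ g'^*N ⊗ f'^*G`. -/
abbrev twist (G : S'.Modules) : X.Modules ⥤ X'.Modules :=
  Scheme.Modules.pullback g' ⋙ DCoh.tensorRightMod ((Scheme.Modules.pullback f').obj G)

variable (G : S'.Modules) (w : g' ≫ f = f' ≫ g) (e : U' ≤ g ⁻¹ᵁ U)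

variable (f U) in
/-- `N ↦ Γ(N, V)` over `Γ(S, U)`. -/
abbrev secV (V : X.Opens) (hV : V ≤ f ⁻¹ᵁ U) : X.Modules ⥤ ModuleCat.{u} Γ(S, U) :=
  secA (f.appLE U V hV).hom

variable (f') in
/-- `N' ↦ Γ(N', V')` over `Γ(S, U)`. -/
abbrev secV' (V' : X'.Opens) (hV' : V' ≤ f' ⁻¹ᵁ U') : X'.Modules ⥤ ModuleCat.{u} Γ(S, U) :=
  secA ((f'.appLE U' V' hV').hom.comp (g.appLE U U' e).hom)

variable {V : X.Opens} (hV : V ≤ f ⁻¹ᵁ U) {V' : X'.Opens} (hVg : V' ≤ g' ⁻¹ᵁ V)
  (hVf : V' ≤ f' ⁻¹ᵁ U')

include w in
theorem appLE_sq (a : Γ(S, U)) :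
    g'.appLE V V' hVg (f.appLE U V hV a) = f'.appLE U' V' hVf (g.appLE U U' e a) := by
  rw [← ConcreteCategory.comp_apply, ← ConcreteCategory.comp_apply, Scheme.Hom.appLE_comp_appLE,
    Scheme.Hom.appLE_comp_appLE]
  congr 2
  simp only [w]

theorem resM_pullSec_smul {N : X.Modules} (r : Γ(X, V)) (x : Γ(N, V)) :
    resM ((Scheme.Modules.pullback g').obj N) hVg (pullSec g' (r • x)) =
      g'.appLE V V' hVg r • resM ((Scheme.Modules.pullback g').obj N) hVg (pullSec g' x) := by
  rw [pullSec_smul, resM_smul]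
  rfl

/-- `m ⊗ x ↦ g'^*x ⊗ f'^*m`. -/
def etaApp (N : X.Modules) :
    ModuleCat.of Γ(S, U) (Mg g U U' G e ⊗[Γ(S, U)] (secV f U V hV).obj N) ⟶
      (secV' f' e V' hVf).obj ((twist g' f' G).obj N) :=
  ModuleCat.ofHom (Y := (secV' f' e V' hVf).obj ((twist g' f' G).obj N)) (TensorProduct.lift (LinearMap.mk₂ Γ(S, U)
    (fun (m : Mg g U U' G e) (x : (secV f U V hV).obj N) =>
      toSec ((f'.appLE U' V' hVf).hom.comp (g.appLE U U' e).hom) (N := (twist g' f' G).obj N)
        (tmul (resM _ hVg (pullSec g' (ofSec (f.appLE U V hV).hom x)))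
          (resM _ hVf (pullSec f' (ofSec (g.appLE U U' e).hom m)))))
    (fun m m' x => by
      refine (congrArg (fun z => toSec _ (tmul _ (resM _ hVf z))) ((congrArg (pullSec f') (ofSec_add _ m m')).trans
        (map_add (((Scheme.Modules.pullbackPushforwardAdjunction f').unit.app G).app U').hom _ _))).trans ?_
      exact congrArg (toSec _) ((congrArg (tmul _) (map_add (resM _ hVf) _ _)).trans (tmul_add_right _ _ _)))
    (fun a m x => by
      refine congrArg (toSec _) ?_
      refine (congrArg (tmul _) ((congrArg (fun z => resM _ hVf (pullSec f' z)) (ofSec_smul _ a m)).trans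
        (resM_pullSec_smul hVf _ _))).trans ?_
      exact tmul_smul_right _ _ _)
    (fun m x x' => by
      refine (congrArg (fun z => toSec _ (tmul (resM _ hVg z) _)) ((congrArg (pullSec g') (ofSec_add _ x x')).trans
        (map_add (((Scheme.Modules.pullbackPushforwardAdjunction g').unit.app N).app V).hom _ _))).trans ?_
      exact congrArg (toSec _) ((congrArg (fun z => tmul z _) (map_add (resM _ hVg) _ _)).trans (tmul_add_left _ _ _)))
    (fun a m x => by
      refine congrArg (toSec _) ?_
      refine (congrArg (fun z => tmul z _) ((congrArg (fun z => resM _ hVg (pullSec g' z)) (ofSec_smul _ a x)).trans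
        ((resM_pullSec_smul hVg _ _).trans (congrArg (· • _) (appLE_sq w e hV hVg hVf a))))).trans ?_
      exact tmul_smul_left _ _ _)))

theorem etaApp_tmul (N : X.Modules) (m : Γ(G, U')) (x : Γ(N, V)) :
    (show Γ(CohB1.tensorMod ((Scheme.Modules.pullback g').obj N) ((Scheme.Modules.pullback f').obj G), V') from
      etaApp G w e hV hVg hVf N ((show Mg g U U' G e from m) ⊗ₜ (show (secV f U V hV).obj N from x))) =
      tmul (resM _ hVg (pullSec g' x)) (resM _ hVf (pullSec f' m)) := rfl

/-- The comparison as a natural transformation. -/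
def eta : secV f U V hV ⋙ tensorLeft (Mg g U U' G e) ⟶ twist g' f' G ⋙ secV' f' e V' hVf where
  app N := etaApp G w e hV hVg hVf N
  naturality {N N'} ψ := by
    refine ModuleCat.MonoidalCategory.tensor_ext fun m x => ?_
    show tmul (resM _ hVg (pullSec g' (ψ.app V (show Γ(N, V) from x))))
        (resM _ hVf (pullSec f' (show Γ(G, U') from m))) =
      ((DCoh.tensorRightMod ((Scheme.Modules.pullback f').obj G)).map ((Scheme.Modules.pullback g').map ψ)).app V'
        (tmul (resM _ hVg (pullSec g' (show Γ(N, V) from x))) (resM _ hVf (pullSec f' (show Γ(G, U') from m))))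
    refine Eq.symm ((DCat.PullTensor.tensorBi_map_tmul _ V' _ _).trans ?_)
    refine congrArg (fun z => tmul z _) ?_
    rw [← DCat.PullTensor.pullback_map_pullSec, app_resM]

variable {I : CochainComplex X.Modules ℕ} {J : CochainComplex X'.Modules ℕ}
  (q : ((twist g' f' G).mapHomologicalComplex _).obj I ⟶ J)

instance instAdditiveSecVTensor : (secV f U V hV ⋙ tensorLeft (Mg g U U' G e)).Additive := inferInstance

/-- The comparison of complexes over the chart. -/
def Psi :
    ((secV f U V hV ⋙ tensorLeft (Mg g U U' G e)).mapHomologicalComplex _).obj I ⟶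
      ((secV' f' e V' hVf).mapHomologicalComplex _).obj J where
  f k := (eta G w e hV hVg hVf).app (I.X k) ≫ (secV' f' e V' hVf).map (q.f k)
  comm' i j _ := by
    have h1 := (eta G w e hV hVg hVf).naturality (I.d i j)
    have h2 := congrArg (secV' f' e V' hVf).map (q.comm i j)
    simp only [Functor.map_comp] at h2
    show ((eta G w e hV hVg hVf).app (I.X i) ≫ (secV' f' e V' hVf).map (q.f i)) ≫
        (secV' f' e V' hVf).map (J.d i j) =
      (secV f U V hV ⋙ tensorLeft (Mg g U U' G e)).map (I.d i j) ≫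
        (eta G w e hV hVg hVf).app (I.X j) ≫ (secV' f' e V' hVf).map (q.f j)
    rw [Category.assoc, h2]
    exact ((congrArg (fun z => z ≫ (secV' f' e V' hVf).map (q.f j)) h1).symm.trans (Category.assoc _ _ _))
      |> (fun h => (Category.assoc _ _ _).symm.trans h)

variable {W : X.Opens} (hW : W ≤ f ⁻¹ᵁ U) {W' : X'.Opens} (hWg : W' ≤ g' ⁻¹ᵁ W) (hWf : W' ≤ f' ⁻¹ᵁ U')
  (h : W ≤ V) (h' : W' ≤ V')

/-- Restriction of sections. -/
def rho : secV f U V hV ⟶ secV f U W hW where
  app N := ModuleCat.ofHom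
    (X := (secV f U V hV).obj N) (Y := (secV f U W hW).obj N)
    { toFun := fun x => (show (secV f U W hW).obj N from resM N h (show Γ(N, V) from x))
      map_add' := fun x y => map_add (resM N h) _ _
      map_smul' := fun a x => by
        show resM N h (f.appLE U V hV a • (show Γ(N, V) from x)) = f.appLE U W hW a • _
        rw [resM_smul]
        congr 1
        exact ConcreteCategory.congr_hom (f.appLE_map hV (homOfLE h).op) a }
  naturality {N N'} ψ := by
    ext x
    exact (app_resM ψ h (show Γ(N, V) from x)).symm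

/-- Restriction of sections upstairs. -/
def rho' : secV' f' e V' hVf ⟶ secV' f' e W' hWf where
  app N := ModuleCat.ofHom
    (X := (secV' f' e V' hVf).obj N) (Y := (secV' f' e W' hWf).obj N)
    { toFun := fun x => (show (secV' f' e W' hWf).obj N from resM N h' (show Γ(N, V') from x))
      map_add' := fun x y => map_add (resM N h') _ _
      map_smul' := fun a x => by
        show resM N h' (f'.appLE U' V' hVf (g.appLE U U' e a) • (show Γ(N, V') from x)) =
          f'.appLE U' W' hWf (g.appLE U U' e a) • _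
        rw [resM_smul]
        congr 1
        exact ConcreteCategory.congr_hom (f'.appLE_map hVf (homOfLE h').op) (g.appLE U U' e a) }
  naturality {N N'} ψ := by
    ext x
    exact (app_resM ψ h' (show Γ(N, V') from x)).symm

/-- Restriction on the tensored complexes. -/
abbrev rhoM : ((secV f U V hV ⋙ tensorLeft (Mg g U U' G e)).mapHomologicalComplex _).obj I ⟶
    ((secV f U W hW ⋙ tensorLeft (Mg g U U' G e)).mapHomologicalComplex _).obj I :=
  (NatTrans.mapHomologicalComplex (Functor.whiskerRight (rho hV hW h) _) _).app I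

/-- Restriction on the upstairs complexes. -/
abbrev rhoJ (J : CochainComplex X'.Modules ℕ) : ((secV' f' e V' hVf).mapHomologicalComplex _).obj J ⟶
    ((secV' f' e W' hWf).mapHomologicalComplex _).obj J :=
  (NatTrans.mapHomologicalComplex (rho' e hVf hWf h') _).app J

theorem Psi_res :
    Psi G w e hV hVg hVf q ≫ rhoJ e hVf hWf h' J =
      rhoM G e hV hW h ≫ Psi G w e hW hWg hWf q := by
  ext k : 1
  refine ModuleCat.MonoidalCategory.tensor_ext fun m x => ?_
  show resM _ h' ((q.f k).app V' (tmul (resM _ hVg (pullSec g' (show Γ(I.X k, V) from x)))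
      (resM _ hVf (pullSec f' (show Γ(G, U') from m))))) =
    (q.f k).app W' (tmul (resM _ hWg (pullSec g' (resM _ h (show Γ(I.X k, V) from x))))
      (resM _ hWf (pullSec f' (show Γ(G, U') from m))))
  rw [← app_resM]
  refine congrArg (fun z => (q.f k).app W' z) ((resM_tmul h' _ _).trans ?_)
  rw [resM_resM, resM_resM, ← resM_pullSec g' h, resM_resM]

end Chart

end Groth.Agent.CohDer1.BCFlat
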