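import Groth.Agent.CohDer1.BCFlat.Chart
import Groth.Agent.CohDer1.BCFlat.Germs
import Groth.Agent.CohDer1.FlatTwist
import Groth.Agent.Desc19b.FlatOverBC
import Groth.Agent.ModStalk.Exact
import Groth.Agent.Coherent.HigherQcoh

/-!
# Base change of higher direct images tensored with a flat module
-/

set_option autoImplicit false
set_option backward.isDefEq.respectTransparency false
set_option linter.style.haveILetI false
set_option linter.unusedSectionVars false
set_option maxHeartbeats 1000000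

universe u

open CategoryTheory CategoryTheory.Limits AlgebraicGeometry Opposite TopologicalSpace MonoidalCategory
open Groth.Agent.Coherent Groth.Agent.PicLib Groth.Agent.AmpleLib Groth.Agent.ModStalk
open scoped TensorProduct

noncomputable section

namespace Groth.Agent.CohDer1.BCFlat

variable {X S X' S' : Scheme.{u}} {f : X ⟶ S} {g : S' ⟶ S} {g' : X' ⟶ X} {f' : X' ⟶ S'}
  (G : S'.Modules) (w : g' ≫ f = f' ≫ g) {I : CochainComplex X.Modules ℕ} {J : CochainComplex X'.Modules ℕ}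
  (q : ((twist g' f' G).mapHomologicalComplex _).obj I ⟶ J)

/-- The comparison of complexes on the base. -/
def Theta :
    ((baseTwist g G).mapHomologicalComplex _).obj (((Coh.push f).mapHomologicalComplex _).obj I) ⟶
      ((Coh.push f').mapHomologicalComplex _).obj J where
  f k := (psi f G w).app (I.X k) ≫ (Coh.push f').map (q.f k)
  comm' i j _ := by
    have h1 := (psi f G w).naturality (I.d i j)
    have h2 := congrArg (Coh.push f').map (q.comm i j)
    simp only [Functor.map_comp] at h2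
    show ((psi f G w).app (I.X i) ≫ (Coh.push f').map (q.f i)) ≫ (Coh.push f').map (J.d i j) =
      (baseTwist g G).map ((Coh.push f).map (I.d i j)) ≫ (psi f G w).app (I.X j) ≫ (Coh.push f').map (q.f j)
    rw [Category.assoc, h2]
    exact ((congrArg (fun z => z ≫ (Coh.push f').map (q.f j)) h1).symm.trans (Category.assoc _ _ _))
      |> (fun h => (Category.assoc _ _ _).symm.trans h)

variable {U : S.Opens} {U' : S'.Opens} (e : U' ≤ g ⁻¹ᵁ U) (hg : f' ⁻¹ᵁ U' ≤ g' ⁻¹ᵁ (f ⁻¹ᵁ U))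

theorem Theta_germ {s' : S'} (hx : s' ∈ U') (k : ℕ)
    (z : (secV f U (f ⁻¹ᵁ U) le_rfl ⋙ tensorLeft (Mg g U U' G e)).obj (I.X k)) :
    (DerSch.stalkFunctor S' s').map ((Theta G w q).f k) (thetaGerm f G e hx (I.X k) z) =
      germP s' (DCoh.toP.obj ((Coh.push f').obj (J.X k))) U' hx
        (show Γ((Coh.push f').obj (J.X k), U') from
          ofSec ((f'.appLE U' (f' ⁻¹ᵁ U') le_rfl).hom.comp (g.appLE U U' e).hom)
            ((Psi G w e (le_rfl : f ⁻¹ᵁ U ≤ f ⁻¹ᵁ U) hg (le_rfl : f' ⁻¹ᵁ U' ≤ f' ⁻¹ᵁ U') q).f k z)) := by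
  refine (DCat.PullTensor.stalkMap_germP _ s' U' hx _).trans (congrArg _ ?_)
  refine (congrArg (((Coh.push f').map (q.f k)).app U') (psi_theta f G e w (I.X k) hg z)).trans ?_
  rfl

/-- The comparison of complexes is a quasi-isomorphism if it is over all affine charts. -/
theorem quasiIsoAt_stalk_Theta [PreservesFiniteLimits (baseTwist g G)] (s' : S')
    (hΨ : ∀ (U : S.Opens) (U' : S'.Opens) (e : U' ≤ g ⁻¹ᵁ U) (hg : f' ⁻¹ᵁ U' ≤ g' ⁻¹ᵁ (f ⁻¹ᵁ U)),
      IsAffineOpen U → IsAffineOpen U' →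
        QuasiIso (Psi G w e (le_rfl : f ⁻¹ᵁ U ≤ f ⁻¹ᵁ U) hg (le_rfl : f' ⁻¹ᵁ U' ≤ f' ⁻¹ᵁ U') q)) (n : ℕ) :
    QuasiIsoAt (((DerSch.stalkFunctor S' s').mapHomologicalComplex _).map (Theta G w q)) n := by
  let st := DerSch.stalkFunctor S' s'
  have hpre : ∀ {U : S.Opens} {U' : S'.Opens}, U' ≤ g ⁻¹ᵁ U → f' ⁻¹ᵁ U' ≤ g' ⁻¹ᵁ (f ⁻¹ᵁ U) := fun {U U'} e =>
    (f'.preimage_mono e).trans (CohCmp.sqLE f g f' g' w U)
  have hchart : ∀ (W : S.Opens), g.base s' ∈ W → ∀ W' : S'.Opens, s' ∈ W' →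
      ∃ (U : S.Opens) (U' : S'.Opens) (_ : U' ≤ g ⁻¹ᵁ U), s' ∈ U' ∧ U ≤ W ∧ U' ≤ W' ∧
        IsAffineOpen U ∧ IsAffineOpen U' := by
    intro W hW W' hW'
    obtain ⟨U, hU, hsU, hUW⟩ := exists_isAffineOpen_mem_and_subset (x := g.base s') (U := W) hW
    obtain ⟨U', hU', hsU', hle⟩ := exists_isAffineOpen_mem_and_subset (x := s') (U := W' ⊓ g ⁻¹ᵁ U) ⟨hW', hsU⟩
    exact ⟨U, U', fun _ h => (hle h).2, hsU', hUW, fun _ h => (hle h).1, hU, hU'⟩
  rw [quasiIsoAt_iff_elements]
  constructor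
  · intro x hx
    obtain ⟨W₁, hW₁, x₀, rfl⟩ := exists_germP_eq (DCoh.toP.obj ((Coh.push f').obj (J.X n))) x
    have hd : germP s' (DCoh.toP.obj ((Coh.push f').obj (J.X (n + 1)))) W₁ hW₁
        (((Coh.push f').map (J.d n (n + 1))).app W₁ (show Γ((Coh.push f').obj (J.X n), W₁) from x₀)) = 0 :=
      (DCat.PullTensor.stalkMap_germP _ s' W₁ hW₁ _).symm.trans hx
    obtain ⟨W₂, hW₂, i₁, i₁', hW⟩ := germP_eq_iff (x := s') (DCoh.toP.obj ((Coh.push f').obj (J.X (n + 1))))
      (U := W₁) (V := W₁) hW₁ hW₁ _ 0 (hd.trans (germP_zero _ _ _).symm)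
    obtain ⟨U, U', e, hs, -, hU'W, hU, hU'⟩ := hchart ⊤ trivial W₂ hW₂
    have hle : U' ≤ W₁ := hU'W.trans i₁.le
    let y₀ : Γ((Coh.push f').obj (J.X n), U') := resM _ hle (show Γ((Coh.push f').obj (J.X n), W₁) from x₀)
    have hy₀ : ((Coh.push f').map (J.d n (n + 1))).app U' y₀ = 0 := by
      refine (app_resM _ hle _).trans ?_
      have h0 : resM ((Coh.push f').obj (J.X (n + 1))) i₁.le
          (((Coh.push f').map (J.d n (n + 1))).app W₁ (show Γ((Coh.push f').obj (J.X n), W₁) from x₀)) = 0 :=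
        hW.trans (map_zero _)
      rw [← resM_resM _ i₁.le hU'W, h0, map_zero]
    obtain ⟨z, hz, b, hb⟩ := ((quasiIsoAt_iff_elements _ n).1 ((quasiIso_iff _).1 (hΨ U U' e (hpre e) hU hU') n)).1
      y₀ hy₀
    refine ⟨thetaGerm f G e hs (I.X n) z, ?_, germP s' (DCoh.toP.obj ((Coh.push f').obj (J.X _))) U' hs b, ?_⟩
    · refine (thetaGerm_natural f G e hs (I.d n (n + 1)) z).trans ?_
      exact (congrArg (thetaGerm f G e hs (I.X (n + 1))) hz).trans ((congrArg (germP s' _ U' hs)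
        (congrArg (ofSec _) (map_zero (theta f G e (I.X (n + 1))).hom))).trans (germP_zero _ _ _))
    · refine (congrArg₂ (· + ·) (Theta_germ G w q e (hpre e) hs n z)
        (DCat.PullTensor.stalkMap_germP _ s' U' hs _)).trans ?_
      refine (germP_add _ U' hs _ _).symm.trans ?_
      refine (congrArg (germP s' _ U' hs) hb).trans ?_
      exact germP_res (DCoh.toP.obj ((Coh.push f').obj (J.X n))) (homOfLE hle) hs _
  · intro y hy zz hzz
    let d := I.d n (n + 1)
    let S₀ : ShortComplex X.Modules := ShortComplex.mk (kernel.ι d) d (kernel.condition d)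
    have hS₀ : S₀.Exact := ShortComplex.exact_of_f_is_kernel _ (kernelIsKernel d)
    haveI : Mono S₀.f := inferInstanceAs (Mono (kernel.ι d))
    haveI : PreservesLimitsOfSize.{u, u} (Coh.push f) :=
      (Scheme.Modules.pullbackPushforwardAdjunction f).rightAdjoint_preservesLimits
    haveI : PreservesFiniteLimits (Coh.push f) := PreservesLimitsOfSize.preservesFiniteLimits _
    let F₀ := Coh.push f ⋙ baseTwist g G ⋙ st
    haveI : PreservesFiniteLimits F₀ := inferInstanceAs (PreservesFiniteLimits (Coh.push f ⋙ baseTwist g G ⋙ st))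
    haveI : F₀.Additive := inferInstanceAs (Functor.Additive (Coh.push f ⋙ baseTwist g G ⋙ st))
    obtain ⟨v, rfl⟩ := (ShortComplex.moduleCat_exact_iff _).1 (hS₀.map_of_mono_of_preservesKernel F₀
      inferInstance inferInstance) y hy
    obtain ⟨W, hW, W', hW', hrep⟩ := rep_stalk f G s' (kernel d) v
    obtain ⟨W₁, hW₁, b₁, rfl⟩ := exists_germP_eq (DCoh.toP.obj ((Coh.push f').obj (J.X ((ComplexShape.up ℕ).prev n)))) zz
    obtain ⟨U, U', e, hs, hUW, hU'W, hU, hU'⟩ := hchart W hW (W' ⊓ W₁) ⟨hW', hW₁⟩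
    obtain ⟨v₀, hv₀⟩ := hrep U U' e hs hUW (hU'W.trans inf_le_left)
    let sec := secV f U (f ⁻¹ᵁ U) le_rfl
    let z := (sec ⋙ tensorLeft (Mg g U U' G e)).map (kernel.ι d) v₀
    have hzd : (sec ⋙ tensorLeft (Mg g U U' G e)).map d z = 0 :=
      ConcreteCategory.congr_hom ((((sec ⋙ tensorLeft (Mg g U U' G e)).map_comp _ _).symm.trans
        (congrArg _ (kernel.condition d))).trans ((sec ⋙ tensorLeft (Mg g U U' G e)).map_zero _ _)) v₀
    have hyz : (F₀.map (kernel.ι d)) v = thetaGerm f G e hs (I.X n) z :=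
      (congrArg _ hv₀.symm).trans (thetaGerm_natural f G e hs (kernel.ι d) v₀)
    change (st.map ((Theta G w q).f n)) ((F₀.map (kernel.ι d)) v) = _ at hzz
    show ∃ w₀, _ = (F₀.map (kernel.ι d)) v
    rw [hyz] at hzz ⊢
    have hzz' := ((Theta_germ G w q e (hpre e) hs n z).symm.trans hzz).trans
      (DCat.PullTensor.stalkMap_germP _ s' W₁ hW₁ _)
    obtain ⟨W₂, hW₂, i₂, i₂', hW₂eq⟩ := germP_eq_iff (x := s') (DCoh.toP.obj ((Coh.push f').obj (J.X n)))
      (U := U') (V := W₁) hs hW₁ _ _ hzz'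
    obtain ⟨U'', hU''a, hs'', hle⟩ := exists_isAffineOpen_mem_and_subset (x := s') (U := W₂) hW₂
    have h' : U'' ≤ U' := fun x hx => i₂.le (hle hx)
    have h₁ : U'' ≤ W₁ := fun x hx => i₂'.le (hle hx)
    obtain ⟨z', hz', hz'res, hz'0⟩ := exists_shrink f G e hs h' hs'' (I.X n) z
    have e' := h'.trans e
    have hΨz : (Psi G w e' (le_rfl : f ⁻¹ᵁ U ≤ f ⁻¹ᵁ U) (hpre e') (le_rfl : f' ⁻¹ᵁ U'' ≤ f' ⁻¹ᵁ U'') q).f n z' =
        ((secV' f' e' (f' ⁻¹ᵁ U'') le_rfl).mapHomologicalComplex _ |>.obj J).d ((ComplexShape.up ℕ).prev n) n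
          (toSec _ (show Γ(J.X _, f' ⁻¹ᵁ U'') from resM ((Coh.push f').obj (J.X _)) h₁
            (show Γ((Coh.push f').obj (J.X _), W₁) from b₁))) := by
      show (q.f n).app (f' ⁻¹ᵁ U'') _ = (J.d _ n).app (f' ⁻¹ᵁ U'') _
      refine Eq.trans ?_ (app_resM ((Coh.push f').map (J.d _ n)) h₁ _).symm
      let M' := (Coh.push f').obj (J.X n)
      have hW₂' : resM M' i₂.le
            (show Γ(M', U') from (q.f n).app (f' ⁻¹ᵁ U')
              (ofSec ((f'.appLE U' (f' ⁻¹ᵁ U') le_rfl).hom.comp (g.appLE U U' e).hom)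
                ((eta G w e (le_rfl : f ⁻¹ᵁ U ≤ f ⁻¹ᵁ U) (hpre e) (le_rfl : f' ⁻¹ᵁ U' ≤ f' ⁻¹ᵁ U')).app (I.X n) z))) =
          resM M' i₂'.le (((Coh.push f').map (J.d _ n)).app W₁
            (show Γ((Coh.push f').obj (J.X _), W₁) from b₁)) := hW₂eq
      have := congrArg (resM M' (show U'' ≤ W₂ from hle)) hW₂'
      rw [resM_resM, resM_resM] at this
      refine Eq.trans ?_ this
      refine Eq.trans ?_ (app_resM ((Coh.push f').map (q.f n)) h' _)
      refine congrArg ((q.f n).app (f' ⁻¹ᵁ U'')) ?_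
      refine (psi_theta f G e' w (I.X n) (hpre e') z').symm.trans ?_
      refine ((congrArg (((psi f G w).app (I.X n)).app U'') hz'res).trans (app_resM _ h' _)).trans ?_
      exact congrArg (resM _ h') (psi_theta f G e w (I.X n) (hpre e) z)
    obtain ⟨w₀, hw₀⟩ := ((quasiIsoAt_iff_elements _ n).1 ((quasiIso_iff _).1 (hΨ U U'' e' (hpre e') hU hU''a) n)).2
      z' (hz'0 d hzd) _ hΨz
    refine ⟨thetaGerm f G e' hs'' (I.X _) w₀, ?_⟩
    refine (thetaGerm_natural f G e' hs'' (I.d _ n) w₀).trans ?_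
    exact (congrArg (thetaGerm f G e' hs'' (I.X n)) hw₀).trans hz'

/-- A map of complexes of modules on a scheme which is a quasi-isomorphism on stalks is one. -/
theorem isIso_homologyMap_of_stalks {K L : CochainComplex S'.Modules ℕ} (φ : K ⟶ L) (n : ℕ)
    (h : ∀ s', QuasiIsoAt (((DerSch.stalkFunctor S' s').mapHomologicalComplex _).map φ) n) :
    IsIso (HomologicalComplex.homologyMap φ n) := by
  refine ModStalk.isIso_of_stalks _ fun s' => ?_
  have hi := h s'
  rw [quasiIsoAt_iff, ShortComplex.quasiIso_iff] at hi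
  have hnat := ShortComplex.mapHomologyIso_hom_naturality
    ((HomologicalComplex.shortComplexFunctor S'.Modules (ComplexShape.up ℕ) n).map φ) (DerSch.stalkFunctor S' s')
  haveI h' : IsIso ((ShortComplex.mapHomologyIso (K.sc n) (DerSch.stalkFunctor S' s')).hom ≫
      (DerSch.stalkFunctor S' s').map (ShortComplex.homologyMap
        ((HomologicalComplex.shortComplexFunctor S'.Modules (ComplexShape.up ℕ) n).map φ))) := by
    rw [← hnat]
    exact @IsIso.comp_isIso _ _ _ _ _ _ _ hi inferInstance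
  exact @IsIso.of_isIso_comp_left _ _ _ _ _ (ShortComplex.mapHomologyIso (K.sc n) (DerSch.stalkFunctor S' s')).hom _ inferInstance h'

/-- Base change of higher direct images, tensored with a module flat over the base. -/
theorem nonempty_iso [QuasiCompact f] [QuasiSeparated f] (sq : IsPullback g' f' f g)
    [HasInjectiveResolutions X.Modules] [HasInjectiveResolutions X'.Modules]
    (F : X.Modules) (hF : Coh.IsQCoh F) (hG : Coh.IsQCoh G) (hGf : FlatMod.IsFlatOver g G) (i : ℕ) :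
    Nonempty ((baseTwist g G).obj ((Coh.Rpush f i).obj F) ≅
      (Coh.Rpush f' i).obj ((twist g' f' G).obj F)) := by
  haveI := hF
  haveI := hG
  haveI hT : PreservesFiniteLimits (baseTwist g G) := (FlatTwist.exact_twist g G hGf).1
  haveI : PreservesColimitsOfSize.{u, u} (baseTwist g G) := (FlatTwist.exact_twist g G hGf).2
  haveI : PreservesFiniteColimits (baseTwist g G) := PreservesColimitsOfSize.preservesFiniteColimits _
  let G' := (Scheme.Modules.pullback f').obj G
  have hG'f : FlatMod.IsFlatOver g' G' := fun x =>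
    Desc19b.isFlatOverAt_baseChange g g' f' f sq.flip G x (hGf _)
  haveI : PreservesFiniteLimits (twist g' f' G) := (FlatTwist.exact_twist g' G' hG'f).1
  haveI : PreservesColimitsOfSize.{u, u} (twist g' f' G) := (FlatTwist.exact_twist g' G' hG'f).2
  haveI : PreservesFiniteColimits (twist g' f' G) := PreservesColimitsOfSize.preservesFiniteColimits _
  haveI : (baseTwist g G).Additive := inferInstance
  haveI : (twist g' f' G).Additive := inferInstance
  let I := injectiveResolution F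
  let J := injectiveResolution ((twist g' f' G).obj F)
  obtain ⟨q, hq⟩ := exists_extend (twist g' f' G) I J (𝟙 _)
  rw [Category.id_comp] at hq
  let Θ := Theta G sq.w q
  haveI : IsIso (HomologicalComplex.homologyMap Θ i) :=
    isIso_homologyMap_of_stalks Θ i fun s' => quasiIsoAt_stalk_Theta G sq.w q s'
      (fun U U' e hg hU hU' => quasiIso_Psi G e I J q sq hGf hq hU hU' hg) i
  let K := ((Coh.push f).mapHomologicalComplex _).obj I.cocomplex
  let e₁ : (baseTwist g G).obj ((Coh.Rpush f i).obj F) ≅ (baseTwist g G).obj (K.homology i) :=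
    (baseTwist g G).mapIso (I.isoRightDerivedObj (Coh.push f) i)
  let e₂ : (((baseTwist g G).mapHomologicalComplex _).obj K).homology i ≅ (baseTwist g G).obj (K.homology i) :=
    (K.sc i).mapHomologyIso (baseTwist g G)
  exact ⟨e₁ ≪≫ e₂.symm ≪≫ asIso (HomologicalComplex.homologyMap Θ i) ≪≫
    (J.isoRightDerivedObj (Coh.push f') i).symm⟩

end Groth.Agent.CohDer1.BCFlat
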